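import Groth.Agent.DualCxLib.LocDualApps
import Groth.Agent.DualCxLib.LocDualGor
import Groth.Agent.DualCxLib.DepthApps
import Groth.Agent.LocCohLib.BaseChange

/-!
Local duality at a prime `q`: an element kills `H^i_q(M)` locally at `q` iff it kills
`Ext^{deg q - i}(M, ω)` locally at `q`.
-/

set_option autoImplicit false
set_option maxHeartbeats 400000
set_option linter.style.haveILetI false
universe u

open CategoryTheory CategoryTheory.Limits TensorProduct
open Groth.Agent
open DTenLib.Point (hH sg kM)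

attribute [local instance] HasDerivedCategory.standard

noncomputable section

namespace LcFinLib

open Groth.Agent.DualCxLib

variable {A : Type u} [CommRing A] [IsNoetherianRing A] {ω : Dual.D A} (q : PrimeSpectrum A)

local notation "B" => Localization.AtPrime q.asIdeal
local notation "φ" => algebraMap A (Localization.AtPrime q.asIdeal)

/-- Killing `Ext` locally at `q` is killing the `Ext` of the localizations. -/
theorem ext_loc_iff {Z : Dual.D B} {η : ω ⟶ (DRing.restrictD φ).obj Z}
    (hL : IsLocH φ q.asIdeal.primeCompl η) {a₀ : ℤ} (hωge : ω.IsGE a₀)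
    (N : ModuleCat.{u} A) [Module.Finite A N] {N' : ModuleCat.{u} B}
    (h : (ModuleCat.extendScalars.{u, u, u} φ).obj N ≅ N') (j : ℤ) (a : A) :
    (∀ f : Ext ω N j, ∃ s ∉ q.asIdeal, s • a • f = 0) ↔ ∀ g : Ext Z N' j, φ a • g = 0 := by
  obtain ⟨ηN, hN, -⟩ := exists_loc_single q.asIdeal.primeCompl N h
  haveI := DerivedCategory.TStructure.t.isGE_shift ω a₀ j (a₀ - j) (by omega)
  obtain ⟨hker, hsurj⟩ := hom_loc (isLocH_shift hL j) (a := a₀ - j) inferInstance
    (X := (DerivedCategory.singleFunctor (ModuleCat.{u} A) 0).obj N) (c := 0) (k := 1)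
    (fun l hl => DTenLib.Point.isZero_sg (show l ≠ 0 by omega))
    (fun l => by
      rcases eq_or_ne l 0 with rfl | hl
      · exact Module.Finite.equiv (DTenLib.Point.sgH N 0).toLinearEquiv.symm
      · haveI := ModuleCat.subsingleton_of_isZero (DTenLib.Point.isZero_sg (N := N) hl)
        infer_instance)
  constructor
  · intro hkill g
    obtain ⟨s, hs, f, hf⟩ := hsurj (ηN ≫ (DRing.restrictD φ).map g)
    obtain ⟨t, ht, htf⟩ := hkill f
    have h1 : (t * s) • (ηN ≫ (DRing.restrictD φ).map (φ a • g)) = 0 := by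
      rw [restrictD_smul, Linear.comp_smul, mul_smul, smul_comm s a, hf, ← Linear.smul_comp,
        ← Linear.smul_comp]
      exact (congrArg (· ≫ _) htf).trans zero_comp
    have h2 : φ (t * s) • φ a • g = 0 := (hN _).1 (by
      show ηN ≫ _ = ηN ≫ _
      rw [restrictD_smul, Linear.comp_smul, h1, Functor.map_zero, comp_zero])
    exact (IsUnit.smul_eq_zero (IsLocalization.map_units B
      (⟨t * s, q.asIdeal.primeCompl.mul_mem ht hs⟩ : q.asIdeal.primeCompl))).1 h2
  · intro hkill f
    obtain ⟨g, hg⟩ := (hN _).2 (f ≫ η⟦j⟧' ≫ ((DRing.restrictD φ).commShiftIso j).inv.app Z)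
    refine hker (a • f) ?_
    rw [Linear.smul_comp, ← hg]
    show a • (ηN ≫ (DRing.restrictD φ).map g) = 0
    rw [← Linear.comp_smul, ← restrictD_smul, hkill g, Functor.map_zero, comp_zero]

/-- The base change of `N` as the localization. -/
theorem nonempty_extend_tensor (N : ModuleCat.{u} A) :
    Nonempty ((ModuleCat.extendScalars.{u, u, u} φ).obj N ≅ ModuleCat.of B (B ⊗[A] N)) := by
  let e := extEquiv (S := B) N
  let L : ((ModuleCat.extendScalars.{u, u, u} φ).obj N : ModuleCat.{u} B) →ₗ[B] B ⊗[A] N :=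
    { toFun := fun x => e x
      map_add' := fun x y => map_add e x y
      map_smul' := fun b x => ?_ }
  · exact ⟨(LinearEquiv.ofBijective L e.bijective).toModuleIso⟩
  letI := Module.compHom B φ
  show e (b • x) = b • e x
  have key : ∀ y : ((ModuleCat.extendScalars.{u, u, u} φ).obj N : ModuleCat.{u} B),
      e (b • y) = b • e y := by
    intro y
    induction y using TensorProduct.induction_on with
    | zero =>
      exact (((congrArg e (smul_zero (A := ((ModuleCat.extendScalars.{u, u, u} φ).obj N : ModuleCat.{u} B)) b)).trans (map_zero e))).trans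
        ((congrArg (b • ·) (map_zero e)).trans (smul_zero b)).symm
    | tmul s n => rfl
    | add x y hx hy =>
      exact ((congrArg e (smul_add (A := ((ModuleCat.extendScalars.{u, u, u} φ).obj N : ModuleCat.{u} B)) b x y)).trans (map_add e _ _)).trans
        ((congrArg₂ (· + ·) hx hy).trans (((congrArg (b • ·) (map_add e x y)).trans (smul_add b _ _)).symm))
  exact key x

/-- Local duality at `q`, in terms of annihilators. -/
theorem locally_killed_iff (hω : Dual.IsDualizing A ω) (M : Type u) [AddCommGroup M] [Module A M]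
    [Module.Finite A M] (i : ℕ) (a : A) :
    (∀ x : LocCoh.H q.asIdeal i M, ∃ s ∉ q.asIdeal, s • a • x = 0) ↔
      ∀ f : Ext ω (ModuleCat.of A M) (deg hω q - i), ∃ s ∉ q.asIdeal, s • a • f = 0 := by
  haveI := DRingLib.hasLBaseChange φ
  obtain ⟨η, hη, hL⟩ := exists_loc_base (S := B) q.asIdeal.primeCompl ω
  set Z := (DRing.LBaseChange φ).obj ω
  haveI : IsNoetherianRing B := IsLocalization.isNoetherianRing q.asIdeal.primeCompl _ inferInstance
  obtain ⟨a₀, ha₀⟩ := isGE_dualizing hω
  have hZ := isDualizing_loc q.asIdeal.primeCompl hω hη hL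
  have hZn := isDualizing_shift hZ (deg hω q)
  obtain ⟨hres⟩ := nonempty_extend_quot (S := B) q.asIdeal.primeCompl (IsLocalRing.maximalIdeal B)
  have hn : Dual.IsNormalized B (Z⟦deg hω q⟧) := fun j hj => by
    refine (postcompL _ (shift₂ Z (deg hω q) j _ rfl)).toEquiv.subsingleton_congr.2 ?_
    refine subsingleton_of_forall_eq 0 fun g => ?_
    have hcomap : (IsLocalRing.maximalIdeal B).comap φ = q.asIdeal :=
      IsLocalization.AtPrime.comap_maximalIdeal B q.asIdeal
    have := (ext_loc_iff q hL ha₀ (ModuleCat.of A (A ⧸ (IsLocalRing.maximalIdeal B).comap φ)) hres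
      (deg hω q + j) 1).1 (by
        rw [hcomap]
        intro f
        obtain ⟨s, hs, hsf⟩ := (isDeg_deg hω q).1 (deg hω q + j) (by omega) f
        exact ⟨s, hs, by rw [one_smul]; exact hsf⟩) g
    rwa [map_one, one_smul] at this
  obtain ⟨E, _, _, hEf, hE⟩ := InjHullLib.exists_injectiveHull (R := B) (IsLocalRing.ResidueField B)
  obtain ⟨hN'⟩ := nonempty_extend_tensor q (ModuleCat.of A M)
  rw [ext_loc_iff q hL ha₀ (ModuleCat.of A M) hN' (deg hω q - i) a]
  let eExt : Ext (Z⟦deg hω q⟧) (ModuleCat.of B (B ⊗[A] M)) (-(i : ℤ)) ≃ₗ[B]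
      Ext Z (ModuleCat.of B (B ⊗[A] M)) (deg hω q - i) :=
    postcompL _ (shift₂ Z (deg hω q) (-(i : ℤ)) (deg hω q - i) (by omega))
  have hann := annihilator_eq hZn hn hE (B ⊗[A] M) i
  have key : (∀ g : Ext Z (ModuleCat.of B (B ⊗[A] M)) (deg hω q - i), φ a • g = 0) ↔
      ∀ y : LocCoh.H (IsLocalRing.maximalIdeal B) i (B ⊗[A] M), φ a • y = 0 := by
    rw [← Module.mem_annihilator, ← Module.mem_annihilator, ← eExt.annihilator_eq]
    exact Eq.to_iff (congrArg (φ a ∈ ·) hann)
  refine Iff.trans ?_ key.symm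
  rw [← Localization.AtPrime.map_eq_maximalIdeal (I := q.asIdeal)]
  let eT := LocCohLib.tensLcEquiv (R' := B) q.asIdeal M i
  haveI : IsLocalizedModule q.asIdeal.primeCompl (TensorProduct.mk A B (LocCoh.H q.asIdeal i M) 1) :=
    (isLocalizedModule_iff_isBaseChange q.asIdeal.primeCompl B _).2
      (TensorProduct.isBaseChange A (LocCoh.H q.asIdeal i M) B)
  constructor
  · intro hk y
    obtain ⟨z, rfl⟩ := eT.surjective y
    rw [← map_smul, algebraMap_smul]
    refine (congrArg eT ?_).trans (map_zero eT)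
    obtain ⟨⟨x, t⟩, hx⟩ := IsLocalizedModule.surj q.asIdeal.primeCompl
      (TensorProduct.mk A B (LocCoh.H q.asIdeal i M) 1) z
    obtain ⟨s, hs, hsx⟩ := hk x
    refine IsLocalizedModule.smul_injective (TensorProduct.mk A B (LocCoh.H q.asIdeal i M) 1)
      (⟨s, hs⟩ * t : q.asIdeal.primeCompl) ?_
    show (s * (t : A)) • a • z = (s * (t : A)) • (0 : B ⊗[A] LocCoh.H q.asIdeal i M)
    rw [smul_zero, mul_smul, smul_comm (t : A) a, show (t : A) • z = _ from hx, ← map_smul, ← map_smul,
      hsx, map_zero]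
  · intro hk x
    have h1 : φ a • eT ((1 : B) ⊗ₜ[A] x) = 0 := hk _
    rw [← map_smul, ← map_zero eT] at h1
    have h2 : TensorProduct.mk A B (LocCoh.H q.asIdeal i M) 1 (a • x) = 0 := by
      rw [map_smul, ← algebraMap_smul B a]
      exact eT.injective h1
    obtain ⟨s, hs⟩ := (IsLocalizedModule.eq_zero_iff q.asIdeal.primeCompl _).1 h2
    exact ⟨s, s.2, hs⟩

end LcFinLib
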