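import Groth.Agent.LcFinLib.Shift
import Groth.Agent.CommAlgDim.Depth
import Mathlib.Algebra.Category.ModuleCat.Injective

/-!
Finiteness of the cohomology with support in `T` is the same as being killed by an ideal `J` with
`V(J) ⊆ T`.
-/

set_option autoImplicit false
set_option maxHeartbeats 400000
universe u

noncomputable section

open CategoryTheory CategoryTheory.Limits

namespace LcFinLib

variable {A : Type u} [CommRing A] [IsNoetherianRing A] {T : Set (PrimeSpectrum A)}

theorem injective_gam (E : ModuleCat.{u} A) [Injective E] :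
    Injective (ModuleCat.of A (gam T E)) := by
  have h1 : Module.Injective A E := Module.injective_module_of_injective_object A E
  have : Module.Injective A (gam T E) := (baer_gam (Module.Baer.of_injective h1) T).injective
  exact Module.injective_object_of_injective_module A _

namespace GammaDelta

variable (G : GammaDelta T)

/-- Higher cohomology of modules supported in `T` vanishes. -/
theorem subsingleton_F_of_gam_top : ∀ (i : ℕ) (M : ModuleCat.{u} A), gam T M = ⊤ →
    Subsingleton ((G.D.F (i + 1)).obj M) := by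
  intro i
  induction i with
  | zero | succ i ih =>
    intro M hM
    let E := ModuleCat.of A (gam T (Injective.under M : ModuleCat.{u} A))
    have hιmem : ∀ m, (Injective.ι M).hom m ∈ gam T (Injective.under M : ModuleCat.{u} A) := fun m =>
      map_mem_gam _ (hM.ge trivial)
    let f : M →ₗ[A] gam T (Injective.under M : ModuleCat.{u} A) :=
      (Injective.ι M).hom.codRestrict _ hιmem
    let g := (LinearMap.range f).mkQ
    have hf : Function.Injective f := fun x y h =>
      (ModuleCat.mono_iff_injective (Injective.ι M)).1 inferInstance (congrArg Subtype.val h)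
    let S : ShortComplex (ModuleCat.{u} A) := ShortComplex.moduleCatMk f g
      (LinearMap.ext fun x => (Submodule.Quotient.mk_eq_zero _).2 ⟨x, rfl⟩)
    have hexact : Function.Exact f g := LinearMap.exact_map_mkQ_range f
    have hS : S.ShortExact :=
      { exact := (ShortComplex.ShortExact.moduleCat_exact_iff_function_exact _).2 hexact
        mono_f := (ModuleCat.mono_iff_injective _).2 hf
        epi_g := (ModuleCat.epi_iff_surjective _).2 (Submodule.mkQ_surjective _) }
    haveI : Injective S.X₂ := injective_gam _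
    have hQ : gam T S.X₃ = ⊤ := eq_top_iff.2 fun x _ => by
      obtain ⟨y, rfl⟩ := Submodule.mkQ_surjective _ x
      exact map_mem_gam g (gam_gam.ge trivial)
    first
      | (haveI := ih S.X₃ hQ
         haveI := G.D.epi_δ hS (i + 1) (G.eff S.X₂ inferInstance (i + 1))
         exact ((ModuleCat.epi_iff_surjective (G.D.δ hS (i + 1))).1 inferInstance).subsingleton)
      | (haveI := G.D.epi_δ hS 0 (G.eff S.X₂ inferInstance 0)
         refine subsingleton_of_forall_eq 0 fun y => ?_
         obtain ⟨x, rfl⟩ := (ModuleCat.epi_iff_surjective (G.D.δ hS 0)).1 inferInstance y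
         obtain ⟨w, hw⟩ : ∃ w, ((gamF T).map S.g).hom w = (G.e.hom.app S.X₃).hom x := by
           obtain ⟨w, hw⟩ := Submodule.mkQ_surjective (LinearMap.range f) ((G.e.hom.app S.X₃).hom x).1
           have hwm : w ∈ gam T (gam T (Injective.under M : ModuleCat.{u} A)) := gam_gam.ge trivial
           exact ⟨⟨w, hwm⟩, Subtype.ext hw⟩
         have hx : ((G.D.F 0).map S.g).hom ((G.e.inv.app S.X₂).hom w) = x := by
           have h1 : ((G.D.F 0).map S.g).hom ((G.e.inv.app S.X₂).hom w) =
               (G.e.inv.app S.X₃).hom (((gamF T).map S.g).hom w) :=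
             (congr($(G.e.inv.naturality S.g) w)).symm
           rw [h1, hw]
           exact hom_inv_apply (G.e.app S.X₃).symm x
         rw [← hx]
         exact congr($(G.D.map_comp_δ hS 0) _))

/-- `H^0` of a finite module is finite. -/
theorem finite_zero (M : ModuleCat.{u} A) [Module.Finite A M] :
    Module.Finite A ((G.D.F 0).obj M) :=
  haveI : IsNoetherian A M := isNoetherian_of_isNoetherianRing_of_finite A M
  haveI h : Module.Finite A ((gamF T).obj M) :=
    (Module.Finite.of_fg (IsNoetherian.noetherian (gam T M)) : Module.Finite A (gam T M))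
  Module.Finite.equiv (G.e.app M).symm.toLinearEquiv

/-- If `J` kills, so does an exact middle. -/
theorem mul_smul_eq_zero {N P Q : ModuleCat.{u} A} (f : N ⟶ P) (g : P ⟶ Q)
    (h : ∀ p, g.hom p = 0 → ∃ n, f.hom n = p) {a b : A} (ha : ∀ n : N, a • n = 0)
    (hb : ∀ q : Q, b • q = 0) (p : P) : (a * b) • p = 0 := by
  obtain ⟨n, hn⟩ := h (b • p) (by rw [map_smul, hb])
  rw [mul_smul, ← hn, ← map_smul, ha, map_zero]

/-- Killed by an ideal with zero locus in `T` implies finite. -/
theorem finite_of_killed : ∀ (n : ℕ) (M : ModuleCat.{u} A) [Module.Finite A M] (J : Ideal A),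
    PrimeSpectrum.zeroLocus (J : Set A) ⊆ T →
    (∀ i ≤ n, ∀ a ∈ J, ∀ x : (G.D.F i).obj M, a • x = 0) → Module.Finite A ((G.D.F n).obj M) := by
  intro n
  induction n with
  | zero => exact fun M _ _ _ _ => G.finite_zero M
  | succ n ih =>
    intro M _ J hJ hkill
    let Γ := gam T M
    let S₀ : ShortComplex (ModuleCat.{u} A) := ShortComplex.moduleCatMk Γ.subtype Γ.mkQ
      (LinearMap.ext fun x => (Submodule.Quotient.mk_eq_zero _).2 x.2)
    have hS₀ : S₀.ShortExact :=
      { exact := (ShortComplex.ShortExact.moduleCat_exact_iff_function_exact _).2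
          (LinearMap.exact_subtype_mkQ Γ)
        mono_f := (ModuleCat.mono_iff_injective _).2 Subtype.val_injective
        epi_g := (ModuleCat.epi_iff_surjective _).2 (Submodule.mkQ_surjective _) }
    have hΓ : ∀ i, IsZero ((G.D.F (i + 1)).obj S₀.X₁) := fun i =>
      ModuleCat.isZero_iff_subsingleton.2 (G.subsingleton_F_of_gam_top i S₀.X₁ gam_gam)
    have hbij : ∀ i, Function.Bijective ((G.D.F (i + 1)).map S₀.g).hom := fun i => by
      haveI := G.D.preservesZero (i + 1)
      constructor
      · refine (injective_iff_map_eq_zero _).2 fun x hx => ?_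
        obtain ⟨y, hy⟩ := (ShortComplex.moduleCat_exact_iff _).1 (G.D.exact₂ hS₀ (i + 1)) x hx
        have hy0 : y = 0 := @Subsingleton.elim _ (ModuleCat.isZero_iff_subsingleton.1 (hΓ i)) y 0
        rw [← hy, hy0]
        exact map_zero _
      · intro x
        haveI := ModuleCat.isZero_iff_subsingleton.1 (hΓ (i + 1))
        exact (ShortComplex.moduleCat_exact_iff _).1 (G.D.exact₃ hS₀ (i + 1)) x (Subsingleton.elim _ _)
    have hN0 : gam T (M ⧸ Γ) = ⊥ := by
      refine eq_bot_iff.2 ?_
      intro y hy
      obtain ⟨J', hJ', hy'⟩ := hy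
      obtain ⟨x, rfl⟩ := Submodule.mkQ_surjective Γ y
      obtain ⟨J₁, hJ₁, hJ₁x⟩ : ∃ J₁ : Ideal A, PrimeSpectrum.zeroLocus (J₁ : Set A) ⊆ T ∧
          ∀ a ∈ J', ∀ b ∈ J₁, b • a • x = 0 := by
        obtain ⟨gs, hgs⟩ := (IsNoetherian.noetherian J' : Submodule.FG J')
        have hg : ∀ a : {a // a ∈ gs}, ∃ J₂ : Ideal A, PrimeSpectrum.zeroLocus (J₂ : Set A) ⊆ T ∧
            ∀ b ∈ J₂, b • a.1 • x = 0 := fun a =>
          (Submodule.Quotient.mk_eq_zero Γ).1 ((Submodule.Quotient.mk_smul Γ a.1 x).trans
            (hy' a.1 (hgs ▸ Submodule.subset_span a.2)))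
        choose J₂ hJ₂ hJ₂x using hg
        refine ⟨∏ a ∈ gs.attach, J₂ a, fun r hr => ?_, fun a ha b hb => ?_⟩
        · obtain ⟨a, -, ha⟩ := (Ideal.IsPrime.prod_le r.isPrime).1
            (show (∏ a ∈ gs.attach, J₂ a) ≤ r.asIdeal from hr)
          exact hJ₂ a ha
        · rw [← hgs] at ha
          induction ha using Submodule.span_induction with
          | mem a ha =>
            exact hJ₂x ⟨a, ha⟩ b
              ((Ideal.prod_le_inf.trans (Finset.inf_le (Finset.mem_attach gs ⟨a, ha⟩))) hb)
          | zero => rw [zero_smul, smul_zero]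
          | add a a' _ _ h h' => rw [add_smul, smul_add, h, h', add_zero]
          | smul c a _ h => rw [smul_eq_mul, mul_smul, smul_comm, h, smul_zero]
      refine (Submodule.mem_bot A).2 ((Submodule.Quotient.mk_eq_zero Γ).2 ⟨J₁ * J', ?_, ?_⟩)
      · rw [PrimeSpectrum.zeroLocus_mul]
        exact Set.union_subset hJ₁ hJ'
      · intro c hc
        refine Submodule.mul_induction_on hc (fun b hb a ha => ?_) fun c d hc hd => ?_
        · rw [mul_smul]; exact hJ₁x a ha b hb
        · rw [add_smul, hc, hd, add_zero]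
    haveI : Module.Finite A S₀.X₃ := Module.Finite.quotient A Γ
    obtain ⟨y, hyJ, hy⟩ : ∃ y ∈ J, IsSMulRegular S₀.X₃ y := by
      refine CommAlgDim.exists_isSMulRegular_mem fun p hp hJp => ?_
      obtain ⟨hprime, v, hv⟩ := isAssociatedPrime_iff.1 hp
      have hv0 : v ∈ gam T S₀.X₃ := mem_gam_iff.2 fun r hr => by
        by_contra hne
        push Not at hne
        refine hr (hJ fun a ha => ?_)
        by_contra har
        exact hne a har (show a • v = 0 from by
          have := hJp ha
          rw [hv] at this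
          simpa using this)
      have hv1 : v = 0 := (Submodule.mem_bot A).1 (hN0.le hv0)
      apply hprime.ne_top
      rw [hv, Ideal.eq_top_iff_one]
      simp [hv1]
    let S₁ : ShortComplex (ModuleCat.{u} A) := S₀.X₃.smulShortComplex y
    have hS₁ : S₁.ShortExact := hy.smulShortComplex_shortExact
    haveI : Module.Finite A S₁.X₂ := inferInstanceAs (Module.Finite A S₀.X₃)
    haveI : Module.Finite A S₁.X₃ :=
      Module.Finite.of_surjective S₁.g.hom ((ModuleCat.epi_iff_surjective _).1 hS₁.epi_g)
    have hN : ∀ i ≤ n + 1, ∀ a ∈ J, ∀ x : (G.D.F i).obj S₀.X₃, a • x = 0 := by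
      intro i hi a ha x
      match i with
      | 0 =>
        haveI : Subsingleton ((G.D.F 0).obj S₀.X₃) := by
          haveI : Subsingleton ((gamF T).obj S₀.X₃) :=
            subsingleton_of_forall_eq 0 fun z => Subtype.ext ((Submodule.mem_bot A).1 (hN0 ▸ z.2))
          exact (G.e.app S₀.X₃).toLinearEquiv.toEquiv.subsingleton
        exact Subsingleton.elim _ _
      | i + 1 =>
        obtain ⟨w, rfl⟩ := (hbij i).2 x
        rw [← map_smul]
        exact (congrArg _ (hkill (i + 1) hi a ha w)).trans (map_zero _)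
    have hQ : ∀ i ≤ n, ∀ a ∈ J * J, ∀ x : (G.D.F i).obj S₁.X₃, a • x = 0 := by
      intro i hi a ha x
      refine Submodule.mul_induction_on ha (fun b hb c hc => ?_) fun c d hc hd => by
        rw [add_smul, hc, hd, add_zero]
      exact mul_smul_eq_zero ((G.D.F i).map S₁.g) (G.D.δ hS₁ i)
        ((ShortComplex.moduleCat_exact_iff _).1 (G.D.exact₃ hS₁ i))
        (hN i (by omega) b hb) (hN (i + 1) (by omega) c hc) x
    haveI := ih S₁.X₃ (J * J) (by rw [PrimeSpectrum.zeroLocus_mul]; exact Set.union_subset hJ hJ) hQ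
    have hsurj : Function.Surjective (G.D.δ hS₁ n).hom := fun x => by
      refine (ShortComplex.moduleCat_exact_iff _).1 (G.D.exact₁ hS₁ n) x ?_
      have h1 : S₁.f = y • 𝟙 S₀.X₃ := rfl
      show ((G.D.F (n + 1)).map S₁.f).hom x = 0
      exact (congr($(G.map_smul_id y (n + 1) S₀.X₃) x)).trans (hN (n + 1) le_rfl y hyJ x)
    haveI : Module.Finite A ((G.D.F (n + 1)).obj S₀.X₃) := Module.Finite.of_surjective _ hsurj
    exact Module.Finite.equiv (LinearEquiv.ofBijective _ (hbij n)).symm

/-- A finite cohomology module is killed by an ideal with zero locus in `T`. -/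
theorem exists_ideal_killing (i : ℕ) (M : ModuleCat.{u} A) [Module.Finite A ((G.D.F i).obj M)] :
    ∃ J : Ideal A, PrimeSpectrum.zeroLocus (J : Set A) ⊆ T ∧
      ∀ a ∈ J, ∀ x : (G.D.F i).obj M, a • x = 0 := by
  refine ⟨Module.annihilator A ((G.D.F i).obj M), fun r hr => ?_,
    fun a ha x => Module.mem_annihilator.1 ha x⟩
  by_contra hrT
  obtain ⟨m, hm⟩ := Module.mem_support_iff'.1 (Module.mem_support_iff_of_finite.2 hr :
    r ∈ Module.support A ((G.D.F i).obj M))
  obtain ⟨s, hs, hsm⟩ := mem_gam_iff.1 (G.mem_gam_top i M m) r hrT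
  exact hm s hs hsm

/-- Finiteness in degrees `≤ n` is killing by one ideal. -/
theorem finite_iff_killed (M : ModuleCat.{u} A) [Module.Finite A M] (n : ℕ) :
    (∀ i ≤ n, Module.Finite A ((G.D.F i).obj M)) ↔
      ∃ J : Ideal A, PrimeSpectrum.zeroLocus (J : Set A) ⊆ T ∧
        ∀ i ≤ n, ∀ a ∈ J, ∀ x : (G.D.F i).obj M, a • x = 0 := by
  refine ⟨fun h => ?_, fun ⟨J, hJ, hk⟩ i hi =>
    G.finite_of_killed i M J hJ fun j hj => hk j (hj.trans hi)⟩
  have hex : ∀ i : Fin (n + 1), ∃ J : Ideal A, PrimeSpectrum.zeroLocus (J : Set A) ⊆ T ∧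
      ∀ a ∈ J, ∀ x : (G.D.F i).obj M, a • x = 0 := fun i =>
    haveI := h i (by omega)
    G.exists_ideal_killing i M
  choose J hJ hJk using hex
  refine ⟨∏ i, J i, fun r hr => ?_, fun i hi a ha x => ?_⟩
  · obtain ⟨i, -, hle⟩ := (Ideal.IsPrime.prod_le r.isPrime).1 (show (∏ i, J i) ≤ r.asIdeal from hr)
    exact hJ i hle
  · exact hJk ⟨i, by omega⟩ a
      ((Ideal.prod_le_inf.trans (Finset.inf_le (Finset.mem_univ (⟨i, by omega⟩ : Fin (n + 1))))) ha) x

end GammaDelta

end LcFinLib
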