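import Groth.Agent.LcFinLib.Kill

/-!
Iterating over the strata of `T`, and passing to smaller supports.
-/

set_option autoImplicit false
set_option maxHeartbeats 400000
universe u

noncomputable section

open CategoryTheory

namespace LcFinLib

variable {A : Type u} [CommRing A] [IsNoetherianRing A]

omit [IsNoetherianRing A] in
theorem eq_zero_of_mem_gam_of_eq_empty {M : Type u} [AddCommGroup M] [Module A M]
    {T : Set (PrimeSpectrum A)} (hT : T ⊆ ∅) {z : M} (hz : z ∈ gam T M) : z = 0 := by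
  obtain ⟨J, hJ, hJz⟩ := hz
  have : J = ⊤ := (PrimeSpectrum.zeroLocus_empty_iff_eq_top).1 (Set.subset_empty_iff.1 (hJ.trans hT))
  rw [← one_smul A z]
  exact hJz 1 (by rw [this]; trivial)

variable {T : Set (PrimeSpectrum A)}

omit [IsNoetherianRing A] in
theorem Bnd.zero (i : ℕ) (M : ModuleCat.{u} A) : Bnd T i M (0 : Zr M i) := by
  match i with
  | 0 => rfl
  | n + 1 => exact ⟨0, zero_mem _, map_zero _⟩

/-- Killing at every point of `T` gives killing in `Γ_T`. -/
theorem kill_pow_of_locKill (hT : StableUnderSpecialization T) (deg : PrimeSpectrum A → ℤ)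
    (hdeg : StrictMono deg) (l b : ℤ) (hb : ∀ q, l ≤ deg q ∧ deg q ≤ b) (a : A) (i : ℕ)
    (M : ModuleCat.{u} A) (hloc : ∀ q ∈ T, LocKill q i M a) :
    Kill T i M (a ^ (b - l + 1).toNat) := by
  let Tr : ℤ → Set (PrimeSpectrum A) := fun r => {q | q ∈ T ∧ r ≤ deg q}
  have hTr : ∀ r, StableUnderSpecialization (Tr r) := fun r x y hxy hx =>
    ⟨hT hxy hx.1, hx.2.trans (hdeg.monotone ((PrimeSpectrum.le_iff_specializes x y).2 hxy))⟩
  suffices H : ∀ (N : ℕ) (r : ℤ), b < r + N → ∀ z ∈ gam (Tr r) (Zr M i), Bnd T i M (a ^ N • z) by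
    intro z hz
    refine H _ l ?_ z (gam_mono (fun q hq => show q ∈ T ∧ l ≤ deg q from ⟨hq, (hb q).1⟩) hz)
    omega
  intro N
  induction N with
  | zero =>
    intro r hr z hz
    rw [eq_zero_of_mem_gam_of_eq_empty
      (fun q hq => absurd (hb q).2 (by have := hq.2; omega)) hz, smul_zero]
    exact Bnd.zero i M
  | succ N ih =>
    intro r hr z hz
    let S : Set (PrimeSpectrum A) := {q | q ∈ T ∧ deg q = r}
    have hS : ∀ q ∈ S, ∀ g ∈ Tr r, g ≤ q → g = q := fun q hq g hg hgq => by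
      rcases eq_or_lt_of_le hgq with h | h
      · exact h
      · have := hdeg h
        have := hg.2
        have := hq.2
        omega
    have hsub : Tr r \ S ⊆ Tr (r + 1) := fun q ⟨hq, hqS⟩ => ⟨hq.1, by
      have h1 := hq.2
      have h2 : deg q ≠ r := fun h => hqS ⟨hq.1, h⟩
      omega⟩
    match i with
    | 0 =>
      have h1 := exists_stage_zero S hS a M (fun q hq => hloc q hq.1) z hz
      have h2 := ih (r + 1) (by omega) _ (gam_mono hsub h1)
      rwa [smul_smul, ← pow_succ] at h2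
    | n + 1 =>
      obtain ⟨w, hw, hzw⟩ := exists_stage (hTr r) S (fun q hq => ⟨hq.1, hq.2.ge⟩) hS a n M
        (fun q hq => hloc q hq.1) z hz
      obtain ⟨w', hw', hw'z⟩ := ih (r + 1) (by omega) _ (gam_mono hsub hzw)
      refine ⟨a ^ N • w + w', add_mem (Submodule.smul_mem _ _ (gam_mono (fun q hq => hq.1) hw)) hw', ?_⟩
      rw [map_add, map_smul, hw'z, smul_sub, smul_smul, ← pow_succ]
      abel

omit [IsNoetherianRing A] in
/-- A map commuting up to a scalar lifts through a map with large image. -/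
theorem exists_lift_smul {X Y : Type u} [AddCommGroup X] [Module A X] [AddCommGroup Y] [Module A Y]
    (f : X →ₗ[A] Y) (u : X →ₗ[A] X) (c a : A) (hu : LinearMap.ker f ≤ LinearMap.ker u)
    (hfu : ∀ x, f (u x) = c • f x) (hrange : ∀ y, a • y ∈ LinearMap.range f) :
    ∃ θ : Y →ₗ[A] X, ∀ y, f (θ y) = (c * a) • y := by
  let v : LinearMap.range f →ₗ[A] X :=
    (LinearMap.ker f).liftQ u hu ∘ₗ f.quotKerEquivRange.symm.toLinearMap
  refine ⟨v ∘ₗ (a • LinearMap.id).codRestrict _ hrange, fun y => ?_⟩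
  obtain ⟨x, hx⟩ := hrange y
  have hv : v ⟨f x, x, rfl⟩ = u x := by
    simp only [v, LinearMap.comp_apply, LinearEquiv.coe_coe]
    rw [f.quotKerEquivRange_symm_apply_image x ⟨x, rfl⟩]
    rfl
  have h1 : (a • LinearMap.id).codRestrict _ hrange y = (⟨f x, x, rfl⟩ : LinearMap.range f) :=
    Subtype.ext hx.symm
  rw [LinearMap.comp_apply, h1, hv, hfu, hx, smul_smul]

omit [IsNoetherianRing A] in
/-- The restriction of a map to sections with support in `T`. -/
abbrev gamMap (T : Set (PrimeSpectrum A)) {X Y : ModuleCat.{u} A} (f : X ⟶ Y) :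
    gam T X →ₗ[A] gam T Y :=
  f.hom.restrict fun _ hx => map_mem_gam f.hom hx

omit [IsNoetherianRing A] in
theorem ker_le_iota (n : ℕ) (M : ModuleCat.{u} A) (x : gam T (Kr M n))
    (hx : gamMap T (piR M n) x = 0) : ∃ z : gam T (Zr M n), gamMap T (iotaR M n) z = x := by
  obtain ⟨z, hz⟩ := (exact_R n M x.1).1 (congrArg Subtype.val hx)
  exact ⟨⟨z, mem_gam_of_injective _ (iotaR_injective n M) (hz ▸ x.2)⟩, Subtype.ext hz⟩

omit [IsNoetherianRing A] in
theorem range_of_kill (n : ℕ) (M : ModuleCat.{u} A) (a : A) (hk : Kill T (n + 1) M a)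
    (y : gam T (Zr M (n + 1))) : a • y ∈ LinearMap.range (gamMap T (piR M n)) := by
  obtain ⟨w, hw, hwy⟩ := hk y.1 y.2
  exact ⟨⟨w, hw⟩, Subtype.ext hwy⟩

/-- A linear choice of boundaries. -/
theorem exists_theta (a : A) (M : ModuleCat.{u} A) :
    ∀ n : ℕ, (∀ i ≤ n + 1, Kill T i M a) → ∃ θ : gam T (Zr M (n + 1)) →ₗ[A] gam T (Kr M n),
      ∀ z, gamMap T (piR M n) (θ z) = a ^ (n + 2) • z := by
  intro n
  induction n with
  | zero =>
    intro hk
    obtain ⟨θ, hθ⟩ := exists_lift_smul (gamMap T (piR M 0)) (a • LinearMap.id) a a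
      (fun x hx => by
        obtain ⟨z, rfl⟩ := ker_le_iota 0 M x hx
        rw [LinearMap.mem_ker, LinearMap.smul_apply, LinearMap.id_apply, ← map_smul]
        have h0 : a • z = 0 := Subtype.ext (hk 0 (by omega) z.1 z.2)
        rw [h0, map_zero])
      (fun x => map_smul _ a x) (range_of_kill 0 M a (hk 1 (by omega)))
    exact ⟨θ, fun z => by rw [hθ, pow_two]⟩
  | succ n ih =>
    intro hk
    obtain ⟨θ, hθ⟩ := ih fun i hi => hk i (by omega)
    have hι : Function.Injective (gamMap T (iotaR M (n + 1))) := fun x y h =>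
      Subtype.ext (iotaR_injective (n + 1) M congr(($h : Kr M (n + 1))))
    obtain ⟨ψ, hψ⟩ := Module.Baer.extension_property (baer_gam (baer_Kr n M) T) _ hι θ
    let u : gam T (Kr M (n + 1)) →ₗ[A] gam T (Kr M (n + 1)) :=
      a ^ (n + 2) • LinearMap.id - gamMap T (iotaR M (n + 1)) ∘ₗ gamMap T (piR M n) ∘ₗ ψ
    have hzero : ∀ z : gam T (Zr M (n + 1)),
        gamMap T (piR M (n + 1)) (gamMap T (iotaR M (n + 1)) z) = 0 := fun z =>
      Subtype.ext ((exact_R (n + 1) M).apply_apply_eq_zero z.1)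
    obtain ⟨θ', hθ'⟩ := exists_lift_smul (gamMap T (piR M (n + 1))) u (a ^ (n + 2)) a
      (fun x hx => by
        obtain ⟨z, rfl⟩ := ker_le_iota (n + 1) M x hx
        have h1 : ψ (gamMap T (iotaR M (n + 1)) z) = θ z := LinearMap.congr_fun hψ z
        simp only [u, LinearMap.mem_ker, LinearMap.sub_apply, LinearMap.smul_apply, LinearMap.id_apply,
          LinearMap.comp_apply, h1, hθ, map_smul, sub_self])
      (fun x => by
        simp only [u, LinearMap.sub_apply, LinearMap.smul_apply, LinearMap.id_apply,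
          LinearMap.comp_apply, map_sub, map_smul, hzero, sub_zero])
      (range_of_kill (n + 1) M a (hk (n + 2) (by omega)))
    exact ⟨θ', fun z => by rw [hθ', ← pow_succ]⟩

/-- Killing passes to smaller supports. -/
theorem kill_of_subset {T' : Set (PrimeSpectrum A)} (hTT' : T' ⊆ T) (a : A) (M : ModuleCat.{u} A)
    (s : ℕ) (hk : ∀ i ≤ s, Kill T i M a) (i : ℕ) (hi : i ≤ s) : Kill T' i M (a ^ (i + 1)) := by
  intro z hz
  match i with
  | 0 =>
    rw [zero_add, pow_one]
    exact hk 0 (by omega) z (gam_mono hTT' hz)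
  | n + 1 =>
    obtain ⟨θ, hθ⟩ := exists_theta a M n fun j hj => hk j (by omega)
    let zT : gam T (Zr M (n + 1)) := ⟨z, gam_mono hTT' hz⟩
    have hzT : zT ∈ gam T' (gam T (Zr M (n + 1))) :=
      mem_gam_of_injective (gam T (Zr M (n + 1))).subtype Subtype.val_injective hz
    exact ⟨(θ zT).1, map_mem_gam ((gam T (Kr M n)).subtype ∘ₗ θ) hzT,
      congrArg Subtype.val (hθ zT)⟩

end LcFinLib
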