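import Groth.Agent.LcFinLib.HTDelta
import Groth.Agent.LcFinLib.Iterate
import Groth.Agent.LcFinLib.Finite
import Groth.Agent.LcFinLib.DualKill

/-!
Faltings' annihilator theorem in the presence of a dualizing complex.
-/

set_option autoImplicit false
set_option maxHeartbeats 400000
set_option linter.style.haveILetI false
universe u

open CategoryTheory CategoryTheory.Limits
open Groth.Agent

attribute [local instance] HasDerivedCategory.standard

noncomputable section

namespace LcFinLib

open Groth.Agent.DualCxLib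

variable {A : Type u} [CommRing A]

/-- `H_T` with its degree zero part. -/
def htGD (T : Set (PrimeSpectrum A)) : GammaDelta T := ⟨htDelta T, htDelta_effaceable T, htZeroIso T⟩

variable [IsNoetherianRing A]

/-- Power torsion as sections with support in `V(I)`. -/
def gammaIIso (I : Ideal A) : DRing.gammaI I ≅ gamF (PrimeSpectrum.zeroLocus (I : Set A)) :=
  NatIso.ofComponents (fun M => (LinearEquiv.ofEq _ _ (gam_zeroLocus I M).symm).toModuleIso)
    (fun g => by ext x; exact Subtype.ext rfl)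

/-- `H_I` with its degree zero part. -/
def lcGD (I : Ideal A) : GammaDelta (PrimeSpectrum.zeroLocus (I : Set A)) :=
  ⟨LocCohLib.lcDelta I, LocCohLib.lcDelta_effaceable I, LocCohLib.lcZeroIso I ≪≫ gammaIIso I⟩

theorem locKill_iff (q : PrimeSpectrum A) (i : ℕ) (M : ModuleCat.{u} A) (a : A) :
    (∀ x : LocCoh.H q.asIdeal i M, ∃ s ∉ q.asIdeal, s • a • x = 0) ↔ LocKill q i M a :=
  (lcGD q.asIdeal).forall_exists_smul_iff i M q.asIdeal a

variable {ω : Dual.D A} (hω : Dual.IsDualizing A ω)
include hω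

theorem krullDim_Icc_eq {p q : PrimeSpectrum A} (h : p ≤ q) :
    Order.krullDim (Set.Icc p q) = (((deg hω q - deg hω p).toNat : ℕ∞) : WithBot ℕ∞) := by
  refine le_antisymm (iSup_le fun l => WithBot.coe_le_coe.2 (ENat.natCast_le_natCast.2 ?_)) ?_
  · let l' : LTSeries (PrimeSpectrum A) := l.map Subtype.val (fun _ _ h => h)
    have h1 := length_le_deg_sub hω l'
    have h2 : deg hω p ≤ deg hω l'.head := (deg_strictMono hω).monotone l.head.2.1
    have h3 : deg hω l'.last ≤ deg hω q := (deg_strictMono hω).monotone l.last.2.2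
    change l'.length ≤ _
    omega
  · obtain ⟨l, hl, hl', hlen⟩ := exists_series_to hω p q h
    let l' : LTSeries (Set.Icc p q) := ⟨l.length, fun i => ⟨l.toFun i,
      hl ▸ LTSeries.head_le l i, hl' ▸ l.strictMono.monotone (Fin.le_last i)⟩, fun i => l.step i⟩
    refine le_trans ?_ (Order.LTSeries.length_le_krullDim l')
    refine WithBot.coe_le_coe.2 (ENat.natCast_le_natCast.2 ?_)
    change _ ≤ l.length
    omega

variable (M : Type u) [AddCommGroup M] [Module A M] [Module.Finite A M]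

/-- One ideal kills the relevant `Ext` modules at all points of `T`. -/
theorem exists_ideal_ext (T T' : Set (PrimeSpectrum A)) (hT' : StableUnderSpecialization T') (s : ℕ)
    (hcond : ∀ p q : PrimeSpectrum A, p ∉ T' → q ∈ T → p ≤ q → (s : WithBot ℕ∞) <
      ((LocCoh.depth (Localization.AtPrime p.asIdeal) (LocalizedModule p.asIdeal.primeCompl M) : ℕ∞) :
        WithBot ℕ∞) + Order.krullDim (Set.Icc p q)) :
    ∃ J : Ideal A, PrimeSpectrum.zeroLocus (J : Set A) ⊆ T' ∧ ∀ q ∈ T, ∀ i ≤ s, ∀ a ∈ J,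
      ∀ f : Ext ω (ModuleCat.of A M) (deg hω q - i), ∃ t ∉ q.asIdeal, t • a • f = 0 := by
  classical
  obtain ⟨lo, hi, hb⟩ := exists_deg_bounds hω
  have hj : ∀ j : ℤ, ∃ J : Ideal A, PrimeSpectrum.zeroLocus (J : Set A) ⊆ T' ∧
      ∀ q ∈ T, ∀ i ≤ s, deg hω q - i = j → ∀ a ∈ J,
        ∀ f : Ext ω (ModuleCat.of A M) j, ∃ t ∉ q.asIdeal, t • a • f = 0 := by
    intro j
    haveI := Ext_finite hω M j
    let N := Module.annihilator A (Ext ω (ModuleCat.of A M) j)
    let P := (Ideal.finite_minimalPrimes_of_isNoetherianRing A N).toFinset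
    let inT : Ideal A → Prop := fun g => ∀ h : g.IsPrime, (⟨g, h⟩ : PrimeSpectrum A) ∈ T'
    let J₁ := ∏ g ∈ P.filter inT, g
    let J₂ := ∏ g ∈ P.filter (fun g => ¬ inT g), g
    have hrad : J₁ * J₂ ≤ N.radical := by
      rw [show J₁ * J₂ = ∏ g ∈ P, g from Finset.prod_filter_mul_prod_filter_not P inT _,
        ← Ideal.sInf_minimalPrimes]
      refine le_sInf fun g hg => ?_
      exact Ideal.prod_le_inf.trans (Finset.inf_le (f := id) ((Set.Finite.mem_toFinset _).2 hg))
    obtain ⟨k, hk⟩ := Ideal.exists_pow_le_of_le_radical_of_fg hrad (IsNoetherian.noetherian _)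
    refine ⟨J₁ ^ (k + 1), fun r hr => ?_, fun q hq i hi hqi a ha f => ?_⟩
    · have hr' : J₁ ≤ r.asIdeal :=
        (Ideal.IsPrime.pow_le_iff (Nat.succ_ne_zero k)).1 (show J₁ ^ (k + 1) ≤ r.asIdeal from hr)
      obtain ⟨g, hg, hgr⟩ := (Ideal.IsPrime.prod_le r.isPrime).1 hr'
      obtain ⟨hgP, hgT⟩ := Finset.mem_filter.1 hg
      have hgmin := (Set.Finite.mem_toFinset _).1 hgP
      exact hT' ((PrimeSpectrum.le_iff_specializes ⟨g, hgmin.1.1⟩ r).1 hgr) (hgT hgmin.1.1)
    · have hJ₂ : ¬ J₂ ≤ q.asIdeal := fun h => by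
        obtain ⟨g, hg, hgq⟩ := (Ideal.IsPrime.prod_le q.isPrime).1 h
        obtain ⟨hgP, hgT⟩ := Finset.mem_filter.1 hg
        have hgmin := (Set.Finite.mem_toFinset _).1 hgP
        obtain ⟨hgp, hgT⟩ : ∃ hgp : g.IsPrime, (⟨g, hgp⟩ : PrimeSpectrum A) ∉ T' := not_forall.1 hgT
        let G : PrimeSpectrum A := ⟨g, hgp⟩
        have hGq : G ≤ q := hgq
        have hnv : ¬ Van G.asIdeal (Ext ω (ModuleCat.of A M) j) :=
          mem_support_iff_not_van.1 (Module.mem_support_iff_of_finite.2 hgmin.1.2)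
        have hjG : j ≤ deg hω G := not_lt.1 fun h => hnv (van_of_gt hω G j h)
        have hdeg := (deg_strictMono hω).monotone hGq
        have h1 := hcond G q hgT hq hGq
        rw [krullDim_Icc_eq hω hGq] at h1
        change ((s : ℕ∞) : WithBot ℕ∞) < _ at h1
        rw [← WithBot.coe_add, WithBot.coe_lt_coe] at h1
        refine hnv ?_
        have h2 := (le_depth_iff_van hω G ((deg hω G - j).toNat + 1) M).1 ?_ (deg hω G - j).toNat
          (Nat.lt_succ_self _)
        · rwa [show deg hω G - ((deg hω G - j).toNat : ℤ) = j by omega] at h2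
        · revert h1
          generalize LocCoh.depth (Localization.AtPrime G.asIdeal) (LocalizedModule G.asIdeal.primeCompl M) = D
          induction D using ENat.recTopCoe with
          | top => exact fun _ => le_top
          | coe D =>
            intro h1
            rw [← Nat.cast_add, Nat.cast_lt] at h1
            rw [Nat.cast_le]
            omega
      obtain ⟨e, he, heq⟩ := Set.not_subset.1 hJ₂
      refine ⟨e ^ k, fun h => heq (q.isPrime.mem_of_pow_mem k h), ?_⟩
      rw [smul_smul, mul_comm]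
      refine Module.mem_annihilator.1 (hk ?_) f
      rw [mul_pow]
      exact Ideal.mul_mem_mul (Ideal.pow_le_pow_right (Nat.le_succ k) ha) (Ideal.pow_mem_pow he k)
  choose J hJT hJ using hj
  refine ⟨∏ j ∈ Finset.Icc (lo - s) hi, J j, fun r hr => ?_, fun q hq i hi' a ha f => ?_⟩
  · obtain ⟨j, -, hle⟩ := (Ideal.IsPrime.prod_le r.isPrime).1
      (show (∏ j ∈ Finset.Icc (lo - s) hi, J j) ≤ r.asIdeal from hr)
    exact hJT j hle
  · have hmem : deg hω q - i ∈ Finset.Icc (lo - s) hi := by
      have h1 := hb q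
      rw [Finset.mem_Icc]
      omega
    exact hJ _ q hq i hi' rfl a ((Ideal.prod_le_inf.trans (Finset.inf_le hmem)) ha) f

/-- Faltings: the depth condition gives an ideal killing the cohomology with support in `T`. -/
theorem exists_ideal_kill {T : Set (PrimeSpectrum A)} (G : GammaDelta T)
    (hT : StableUnderSpecialization T) (T' : Set (PrimeSpectrum A))
    (hT' : StableUnderSpecialization T') (s : ℕ)
    (hcond : ∀ p q : PrimeSpectrum A, p ∉ T' → q ∈ T → p ≤ q → (s : WithBot ℕ∞) <
      ((LocCoh.depth (Localization.AtPrime p.asIdeal) (LocalizedModule p.asIdeal.primeCompl M) : ℕ∞) :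
        WithBot ℕ∞) + Order.krullDim (Set.Icc p q)) :
    ∃ J : Ideal A, PrimeSpectrum.zeroLocus (J : Set A) ⊆ T' ∧
      ∀ i ≤ s, ∀ a ∈ J, ∀ x : (G.D.F i).obj (ModuleCat.of A M), a • x = 0 := by
  obtain ⟨J₀, hJ₀, hJ₀'⟩ := exists_ideal_ext hω M T T' hT' s hcond
  obtain ⟨lo, hi, hb⟩ := exists_deg_bounds hω
  let N := (hi - lo + 1).toNat
  refine ⟨Ideal.span ((fun a => a ^ N) '' (J₀ : Set A)), fun r hr => hJ₀ fun a ha => ?_,
    fun i hi' a ha x => ?_⟩
  · refine r.isPrime.mem_of_pow_mem N ?_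
    exact (show Ideal.span ((fun a => a ^ N) '' (J₀ : Set A)) ≤ r.asIdeal from hr)
      (Ideal.subset_span ⟨a, ha, rfl⟩)
  · induction ha using Submodule.span_induction with
    | mem b hb' =>
      obtain ⟨c, hc, rfl⟩ := hb'
      refine (G.forall_smul_eq_zero_iff i _ _).2 ?_ x
      refine kill_pow_of_locKill hT (deg hω) (deg_strictMono hω) lo hi hb c i _ fun q hq => ?_
      exact (locKill_iff q i (ModuleCat.of A M) c).1
        ((locally_killed_iff q hω M i c).2 (hJ₀' q hq i hi' c hc))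
    | zero => rw [zero_smul]
    | add b c _ _ h h' => rw [add_smul, h, h', add_zero]
    | smul r b _ h => rw [smul_eq_mul, mul_smul, h, smul_zero]

/-- Faltings, the converse. -/
theorem lt_depth_add_of_kill {T : Set (PrimeSpectrum A)} (G : GammaDelta T)
    (hT : StableUnderSpecialization T) (T' : Set (PrimeSpectrum A)) (s : ℕ) (J : Ideal A)
    (hJ : PrimeSpectrum.zeroLocus (J : Set A) ⊆ T')
    (hkill : ∀ i ≤ s, ∀ a ∈ J, ∀ x : (G.D.F i).obj (ModuleCat.of A M), a • x = 0)
    (p q : PrimeSpectrum A) (hp : p ∉ T') (hq : q ∈ T) (hpq : p ≤ q) :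
    (s : WithBot ℕ∞) <
      ((LocCoh.depth (Localization.AtPrime p.asIdeal) (LocalizedModule p.asIdeal.primeCompl M) : ℕ∞) :
        WithBot ℕ∞) + Order.krullDim (Set.Icc p q) := by
  obtain ⟨a, haJ, hap⟩ := Set.not_subset.1 fun h => hp (hJ (h : (J : Set A) ⊆ p.asIdeal))
  rw [krullDim_Icc_eq hω hpq]
  change ((s : ℕ∞) : WithBot ℕ∞) < _
  rw [← WithBot.coe_add, WithBot.coe_lt_coe]
  by_contra hle
  rw [not_lt] at hle
  obtain ⟨d, hd⟩ : ∃ d : ℕ, LocCoh.depth (Localization.AtPrime p.asIdeal)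
      (LocalizedModule p.asIdeal.primeCompl M) = d := by
    revert hle
    generalize LocCoh.depth (Localization.AtPrime p.asIdeal) (LocalizedModule p.asIdeal.primeCompl M) = D
    induction D using ENat.recTopCoe with
    | top => simp
    | coe D => exact fun _ => ⟨D, rfl⟩
  rw [hd, ← Nat.cast_add, Nat.cast_le] at hle
  have hdeg := (deg_strictMono hω).monotone hpq
  obtain ⟨-, hnv⟩ := (depth_eq_iff_van hω p d M).1 hd
  let i := d + (deg hω q - deg hω p).toNat
  have hk := kill_of_subset (zeroLocus_subset hT hq) a (ModuleCat.of A M) s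
    (fun j hj => (G.forall_smul_eq_zero_iff j _ a).1 (hkill j hj a haJ)) i hle
  have hloc : LocKill q i (ModuleCat.of A M) (a ^ (i + 1)) := fun z hz =>
    ⟨1, fun h => q.isPrime.ne_top ((Ideal.eq_top_iff_one _).2 h), by rw [one_smul]; exact hk z hz⟩
  have hext := (locally_killed_iff q hω M i _).1 ((locKill_iff q i (ModuleCat.of A M) _).2 hloc)
  rw [show deg hω q - (i : ℤ) = deg hω p - d by omega] at hext
  refine hnv fun f => ?_
  obtain ⟨t, ht, htf⟩ := hext f
  refine ⟨t * a ^ (i + 1), fun h => ?_, by rw [mul_smul]; exact htf⟩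
  rcases p.isPrime.mem_or_mem h with h | h
  · exact ht (hpq h)
  · exact hap (p.isPrime.mem_of_pow_mem _ h)

end LcFinLib
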