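import Groth.Agent.LcFinLib.Compare
import Groth.Prelude.Def_Formal2

/-!
Replacing `J` by a smaller ideal with the same trace on `V(I)`, so that the local cohomology
stabilizes up to a given degree.
-/

set_option autoImplicit false
set_option maxHeartbeats 400000
set_option linter.style.haveILetI false
universe u

open CategoryTheory CategoryTheory.Limits
open Groth.Agent Groth.Agent.DualCxLib

attribute [local instance] HasDerivedCategory.standard

noncomputable section

namespace LcFinLib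

variable {A : Type u} [CommRing A]

/-- `dim (A/p)_q` is the dimension of the interval of primes. -/
theorem dimBetween_eq_krullDim_Icc (p q : PrimeSpectrum A) :
    Formal2.dimBetween A p.asIdeal q.asIdeal = Order.krullDim (Set.Icc p q) := by
  let S := Localization.AtPrime q.asIdeal
  let P := p.asIdeal.map (algebraMap A S)
  let f : PrimeSpectrum (S ⧸ P) → PrimeSpectrum A :=
    PrimeSpectrum.comap (algebraMap A S) ∘ PrimeSpectrum.comap (Ideal.Quotient.mk P)
  have hemb : Topology.IsEmbedding f :=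
    ((PrimeSpectrum.localization_comap_isEmbedding S q.asIdeal.primeCompl).comp
      (PrimeSpectrum.isClosedEmbedding_comap_of_surjective _ _
        Ideal.Quotient.mk_surjective).isEmbedding)
  have hle : ∀ x y, f x ≤ f y ↔ x ≤ y := fun x y => by
    rw [PrimeSpectrum.le_iff_specializes, PrimeSpectrum.le_iff_specializes,
      hemb.isInducing.specializes_iff]
  have hrange : ∀ r : PrimeSpectrum A, r ∈ Set.range f ↔ r ∈ Set.Icc p q := by
    intro r
    constructor
    · rintro ⟨x, rfl⟩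
      refine ⟨fun a ha => ?_, fun a ha => ?_⟩
      · show Ideal.Quotient.mk P (algebraMap A S a) ∈ x.asIdeal
        rw [Ideal.Quotient.eq_zero_iff_mem.2 (Ideal.mem_map_of_mem _ ha)]
        exact zero_mem _
      · by_contra hq
        refine (PrimeSpectrum.comap (Ideal.Quotient.mk P) x).isPrime.ne_top
          (Ideal.eq_top_of_isUnit_mem _ ha (IsLocalization.map_units S (⟨a, hq⟩ : q.asIdeal.primeCompl)))
    · rintro ⟨hpr, hrq⟩
      have hr : r ∈ Set.range (PrimeSpectrum.comap (algebraMap A S)) := by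
        rw [PrimeSpectrum.localization_comap_range S q.asIdeal.primeCompl]
        exact Set.disjoint_left.2 fun a ha har => ha (hrq har)
      obtain ⟨r', rfl⟩ := hr
      obtain ⟨x, hx⟩ : r' ∈ Set.range (PrimeSpectrum.comap (Ideal.Quotient.mk P)) := by
        rw [range_comap_of_surjective _ _ Ideal.Quotient.mk_surjective, Ideal.mk_ker,
          PrimeSpectrum.mem_zeroLocus, SetLike.coe_subset_coe, Ideal.map_le_iff_le_comap]
        exact hpr
      exact ⟨x, congrArg (PrimeSpectrum.comap (algebraMap A S)) hx⟩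
  let e : PrimeSpectrum (S ⧸ P) ≃o Set.Icc p q :=
    { toEquiv := Equiv.ofBijective (fun x => (⟨f x, (hrange _).1 ⟨x, rfl⟩⟩ : Set.Icc p q))
        ⟨fun x y h => hemb.injective (congrArg Subtype.val h),
          fun r => ((hrange r.1).2 r.2).imp fun x hx => Subtype.ext hx⟩
      map_rel_iff' := fun {x y} => hle x y }
  exact Order.krullDim_eq_of_orderIso e

variable [IsNoetherianRing A] {ω : Dual.D A} (hω : Dual.IsDualizing A ω)
  (I J : Ideal A) (M : Type u) [AddCommGroup M] [Module A M] [Module.Finite A M] (s d : ℕ)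
  (T : Set (PrimeSpectrum A))
  (hT : ∀ p : PrimeSpectrum A, p ∈ T ↔ ∀ q : PrimeSpectrum A, p ≤ q → I ≤ q.asIdeal → J ≤ q.asIdeal)
  (h3 : ∀ p : PrimeSpectrum A, ¬ I ≤ p.asIdeal → p ∈ T → ∃ q : PrimeSpectrum A, p ≤ q ∧
    J ≤ q.asIdeal ∧ I ≤ q.asIdeal ∧
    Formal2.dimBetween A p.asIdeal q.asIdeal ≤ ((d : ℕ∞) : WithBot ℕ∞))
  (h4 : ∀ p : PrimeSpectrum A, ¬ I ≤ p.asIdeal → p ∉ T → ∀ q : PrimeSpectrum A, p ≤ q →
    J ≤ q.asIdeal → I ≤ q.asIdeal →
    (s : ℕ∞) ≤ LocCoh.depth (Localization.AtPrime p.asIdeal) (LocalizedModule p.asIdeal.primeCompl M) ∨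
      (((d + s : ℕ) : ℕ∞) : WithBot ℕ∞) <
        ((LocCoh.depth (Localization.AtPrime p.asIdeal) (LocalizedModule p.asIdeal.primeCompl M) : ℕ∞) :
          WithBot ℕ∞) + Formal2.dimBetween A p.asIdeal q.asIdeal)

/-- The condition on `J₀`: the depth is big on the part of `T` outside `V(I)` and `V(J₀)`. -/
def Big (J₀ : Ideal A) : Prop :=
  ∀ p : PrimeSpectrum A, ¬ I ≤ p.asIdeal → p ∈ T → ¬ J₀ ≤ p.asIdeal →
    (s : ℕ∞) < LocCoh.depth (Localization.AtPrime p.asIdeal) (LocalizedModule p.asIdeal.primeCompl M)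

include hω hT h3 h4 in
/-- The finitely many primes to add to `V(J)`. -/
theorem exists_big : ∃ J₀ : Ideal A, J₀ ≤ J ∧
    (∀ q : PrimeSpectrum A, J₀ ≤ q.asIdeal → I ≤ q.asIdeal → J ≤ q.asIdeal) ∧ Big I M s T J₀ := by
  classical
  obtain ⟨lo, hi, hb⟩ := exists_deg_bounds hω
  let Q : Set (Ideal A) := ⋃ j ∈ Finset.Icc (lo - s) hi,
    {g ∈ (Module.annihilator A (Ext ω (ModuleCat.of A M) j)).minimalPrimes |
      ∃ h : g.IsPrime, (⟨g, h⟩ : PrimeSpectrum A) ∈ T}
  have hQ : Q.Finite := by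
    refine Set.Finite.biUnion (Finset.finite_toSet _) fun j _ => ?_
    exact (Ideal.finite_minimalPrimes_of_isNoetherianRing A _).subset fun g hg => hg.1
  refine ⟨J * ∏ g ∈ hQ.toFinset, g, Ideal.mul_le_left, fun q hq hIq => ?_, fun p hpI hpT hp => ?_⟩
  · rcases q.isPrime.mul_le.1 hq with h | h
    · exact h
    · obtain ⟨g, hg, hgq⟩ := (Ideal.IsPrime.prod_le q.isPrime).1 h
      obtain ⟨j, -, -, hgp, hgT⟩ := Set.mem_iUnion₂.1 ((Set.Finite.mem_toFinset _).1 hg)
      exact (hT ⟨g, hgp⟩).1 hgT q hgq hIq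
  · by_contra hd
    rw [not_lt] at hd
    obtain ⟨k, hk⟩ : ∃ k : ℕ, LocCoh.depth (Localization.AtPrime p.asIdeal)
        (LocalizedModule p.asIdeal.primeCompl M) = k :=
      ENat.ne_top_iff_exists.1 (ne_top_of_le_ne_top (ENat.natCast_ne_top s) hd) |>.imp fun _ h => h.symm
    rw [hk, Nat.cast_le] at hd
    obtain ⟨-, hnv⟩ := (depth_eq_iff_van hω p k M).1 hk
    haveI := Ext_finite hω M (deg hω p - k)
    obtain ⟨g, hg, hgp⟩ := Ideal.exists_minimalPrimes_le
      (Module.mem_support_iff_of_finite.1 (mem_support_iff_not_van.2 hnv))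
    let G : PrimeSpectrum A := ⟨g, hg.1.1⟩
    haveI : G.asIdeal.IsPrime := G.isPrime
    have hGp : G ≤ p := hgp
    have hmem : deg hω p - k ∈ Finset.Icc (lo - s) hi := by
      have h1 := hb p
      rw [Finset.mem_Icc]
      omega
    by_cases hGT : G ∈ T
    · refine hp (Ideal.mul_le_right.trans ?_)
      refine (Ideal.prod_le_inf.trans (Finset.inf_le (f := id) ((Set.Finite.mem_toFinset hQ).2 ?_))).trans hgp
      exact Set.mem_iUnion₂.2 ⟨_, hmem, hg, hg.1.1, hGT⟩
    · obtain ⟨q, hpq, hJq, hIq, hdq⟩ := h3 p hpI hpT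
      have hGI : ¬ I ≤ G.asIdeal := fun h => hpI (h.trans hgp)
      have hGq : G ≤ q := hGp.trans hpq
      have hne : G ≠ p := fun h => hGT (h ▸ hpT)
      have hlt : deg hω G < deg hω p := deg_strictMono hω (lt_of_le_of_ne hGp hne)
      have hpq' := (deg_strictMono hω).monotone hpq
      have hnvG : ¬ Van G.asIdeal (Ext ω (ModuleCat.of A M) (deg hω p - k)) :=
        mem_support_iff_not_van.1 (Module.mem_support_iff_of_finite.2 hg.1.2)
      have hjG : deg hω p - k ≤ deg hω G := not_lt.1 fun h => hnvG (van_of_gt hω G _ h)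
      let δ := (deg hω G - (deg hω p - k)).toNat
      have hle : LocCoh.depth (Localization.AtPrime G.asIdeal)
          (LocalizedModule G.asIdeal.primeCompl M) ≤ (δ : ℕ∞) := by
        by_contra hcon
        rw [not_le] at hcon
        have h2 := (le_depth_iff_van hω G (δ + 1) M).1
          (by rw [Nat.cast_add, Nat.cast_one]; exact Order.add_one_le_of_lt hcon) δ (Nat.lt_succ_self _)
        rw [show deg hω G - (δ : ℤ) = deg hω p - k by omega] at h2
        exact hnvG h2
      obtain ⟨e, he⟩ : ∃ e : ℕ, LocCoh.depth (Localization.AtPrime G.asIdeal)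
          (LocalizedModule G.asIdeal.primeCompl M) = e :=
        ENat.ne_top_iff_exists.1 (ne_top_of_le_ne_top (ENat.natCast_ne_top δ) hle) |>.imp fun _ h => h.symm
      rw [he, Nat.cast_le] at hle
      rw [dimBetween_eq_krullDim_Icc, krullDim_Icc_eq hω hpq, WithBot.coe_le_coe,
        Nat.cast_le] at hdq
      rcases h4 G hGI hGT q hGq hJq hIq with h | h
      · rw [he, Nat.cast_le] at h
        omega
      · rw [he, dimBetween_eq_krullDim_Icc, krullDim_Icc_eq hω hGq, ← WithBot.coe_add,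
          WithBot.coe_lt_coe, ← Nat.cast_add, Nat.cast_lt] at h
        omega

variable {J₀ : Ideal A}
  (hJ₀ : ∀ q : PrimeSpectrum A, J₀ ≤ q.asIdeal → I ≤ q.asIdeal → J ≤ q.asIdeal)
  (hbig : Big I M s T J₀)

include hω hT hbig in
/-- The comparison maps are bijective. -/
theorem bijective_of_big {J' : Ideal A} (hle : J' ≤ J₀) (hJJ : J₀ ≤ J)
    (hV : PrimeSpectrum.zeroLocus ((J' : Ideal A) : Set A) ∩ PrimeSpectrum.zeroLocus ((I : Ideal A) : Set A) =
      PrimeSpectrum.zeroLocus ((J : Ideal A) : Set A) ∩ PrimeSpectrum.zeroLocus ((I : Ideal A) : Set A))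
    (i : ℕ) (hi : i ≤ s) :
    Function.Bijective ((Dual2.HmapOfLE hle i).app (ModuleCat.of A M)).hom := by
  refine bijective_HmapOfLE hω M hle s (fun q hq hq0 => ?_) i hi
  have hmem : ∀ r : PrimeSpectrum A, J' ≤ r.asIdeal → I ≤ r.asIdeal → J ≤ r.asIdeal := fun r h h' =>
    ((Set.ext_iff.1 hV r).1 ⟨h, h'⟩).1
  exact hbig q (fun h => hq0 (hJJ.trans (hmem q hq h)))
    ((hT q).2 fun r hqr => hmem r (hq.trans hqr)) hq0

include hω hT h3 h4 hJ₀ hbig in
/-- The depth condition outside `V(J₀) ∪ V(I)`. -/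
theorem lt_depth_add (p q : PrimeSpectrum A) (hpI : ¬ I ≤ p.asIdeal) (hp : ¬ J₀ ≤ p.asIdeal)
    (hq : J₀ ≤ q.asIdeal) (hpq : p ≤ q) :
    (s : WithBot ℕ∞) <
      ((LocCoh.depth (Localization.AtPrime p.asIdeal) (LocalizedModule p.asIdeal.primeCompl M) : ℕ∞) :
        WithBot ℕ∞) + Order.krullDim (Set.Icc p q) := by
  have hne : p ≠ q := fun h => hp (h ▸ hq)
  have hlt : deg hω p < deg hω q := deg_strictMono hω (lt_of_le_of_ne hpq hne)
  rw [krullDim_Icc_eq hω hpq]
  change ((s : ℕ∞) : WithBot ℕ∞) < _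
  rw [← WithBot.coe_add, WithBot.coe_lt_coe]
  by_cases hpT : p ∈ T
  · exact lt_of_lt_of_le (hbig p hpI hpT hp) le_self_add
  have hqq : ∃ q' : PrimeSpectrum A, q ≤ q' ∧ J ≤ q'.asIdeal ∧ I ≤ q'.asIdeal ∧
      deg hω q' - deg hω q ≤ d := by
    by_cases hIq : I ≤ q.asIdeal
    · exact ⟨q, le_rfl, hJ₀ q hq hIq, hIq, by omega⟩
    · obtain ⟨q', h1, h2, h2', h3'⟩ := h3 q hIq ((hT q).2 fun r hqr => hJ₀ r (hq.trans hqr))
      rw [dimBetween_eq_krullDim_Icc, krullDim_Icc_eq hω h1, WithBot.coe_le_coe, Nat.cast_le] at h3'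
      exact ⟨q', h1, h2, h2', by omega⟩
  obtain ⟨q', hqq', hJq', hIq', hd'⟩ := hqq
  have h := h4 p hpI hpT q' (hpq.trans hqq') hJq' hIq'
  rw [dimBetween_eq_krullDim_Icc, krullDim_Icc_eq hω (hpq.trans hqq')] at h
  revert h
  generalize LocCoh.depth (Localization.AtPrime p.asIdeal) (LocalizedModule p.asIdeal.primeCompl M) = D
  induction D using ENat.recTopCoe with
  | top => intro _; rw [top_add]; exact ENat.natCast_lt_top s
  | coe D =>
    intro h
    rw [← Nat.cast_add, Nat.cast_lt]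
    rcases h with h | h
    · rw [Nat.cast_le] at h
      omega
    · rw [← WithBot.coe_add, WithBot.coe_lt_coe, ← Nat.cast_add, Nat.cast_lt] at h
      omega

include hω hT h3 h4 hJ₀ hbig in
/-- A power of `J₀ * I` kills the cohomology up to degree `s`. -/
theorem exists_pow_kill (K : Ideal A)
    (hK : ∀ p : PrimeSpectrum A, ¬ K ≤ p.asIdeal → ¬ I ≤ p.asIdeal ∧ ¬ J₀ ≤ p.asIdeal ∨
      ∀ q : PrimeSpectrum A, J₀ ≤ q.asIdeal → p ≤ q → (s : WithBot ℕ∞) <
        ((LocCoh.depth (Localization.AtPrime p.asIdeal) (LocalizedModule p.asIdeal.primeCompl M) : ℕ∞) :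
          WithBot ℕ∞) + Order.krullDim (Set.Icc p q)) :
    ∃ n : ℕ, ∀ a ∈ K ^ n, ∀ i : ℕ, i ≤ s → ∀ x : LocCoh.H J₀ i M, a • x = 0 := by
  have hst : ∀ L : Ideal A, StableUnderSpecialization (PrimeSpectrum.zeroLocus (L : Set A)) :=
    fun L => (PrimeSpectrum.isClosed_zeroLocus _).stableUnderSpecialization
  obtain ⟨L, hL, hkill⟩ := exists_ideal_kill hω M (lcGD J₀) (hst J₀)
    (PrimeSpectrum.zeroLocus (K : Set A)) (hst K) s fun p q hp hq hpq => by
      rcases hK p hp with ⟨h1, h2⟩ | h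
      · exact lt_depth_add hω I J M s d T hT h3 h4 hJ₀ hbig p q h1 h2 hq hpq
      · exact h q hq hpq
  obtain ⟨n, hn⟩ := Ideal.exists_pow_le_of_le_radical_of_fg
    (PrimeSpectrum.zeroLocus_subset_zeroLocus_iff L K |>.1 hL) (IsNoetherian.noetherian K)
  exact ⟨n, fun a ha i hi x => hkill i hi a (hn ha) x⟩

end LcFinLib
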