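import Groth.Agent.LcFinLib.Main

/-!
Sections with support in `T₀ ⊆ T₁`: the cohomology does not change when the local cohomology at
the points of `T₁ \ T₀` vanishes.
-/

set_option autoImplicit false
set_option maxHeartbeats 400000
set_option linter.style.haveILetI false
universe u

open CategoryTheory CategoryTheory.Limits
open Groth.Agent Groth.Agent.DualCxLib

attribute [local instance] HasDerivedCategory.standard

noncomputable section

namespace LcFinLib

variable {A : Type u} [CommRing A]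

section Cyc

open GammaDelta (inv_hom_apply hom_inv_apply)

variable {T T' : Set (PrimeSpectrum A)}

/-- The class of a cycle. -/
def cyc (G : GammaDelta T) : ∀ (i : ℕ) (M : ModuleCat.{u} A),
    gam T (Zr M i) →ₗ[A] (G.D.F i).obj M
  | 0, M => (G.e.app M).inv.hom
  | n + 1, M =>
    (G.D.δ (LocCohLib.DeltaFun.under_shortExact M) n).hom ∘ₗ cyc G n (cokernel (Injective.ι M))

theorem cyc_surjective (G : GammaDelta T) :
    ∀ (i : ℕ) (M : ModuleCat.{u} A), Function.Surjective (cyc G i M)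
  | 0, M => fun x => ⟨(G.e.app M).hom.hom x, inv_hom_apply (G.e.app M) x⟩
  | n + 1, M => by
    have hS : (LocCohLib.DeltaFun.under (ModuleCat.{u} A) M).ShortExact :=
      LocCohLib.DeltaFun.under_shortExact M
    exact ((ModuleCat.epi_iff_surjective _).1
      (G.D.epi_δ hS n (G.eff (Injective.under M) inferInstance n))).comp
      (cyc_surjective G n _)

theorem cyc_eq_zero_iff (G : GammaDelta T) :
    ∀ (i : ℕ) (M : ModuleCat.{u} A) (z : gam T (Zr M i)), cyc G i M z = 0 ↔ Bnd T i M z.1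
  | 0, M, z => by
    let e : (G.D.F 0).obj M ≅ (gamF T).obj M := G.e.app M
    change e.inv.hom z = 0 ↔ z.1 = 0
    refine ⟨fun h => ?_, fun h => ?_⟩
    · have h0 : z = 0 := by
        exact (hom_inv_apply e z).symm.trans ((congrArg e.hom.hom h).trans (map_zero _))
      exact congrArg Subtype.val h0
    · obtain rfl : z = 0 := Subtype.ext h
      exact map_zero _
  | 1, M, z => by
    let π := cokernel.π (Injective.ι M)
    have hS : (LocCohLib.DeltaFun.under (ModuleCat.{u} A) M).ShortExact :=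
      LocCohLib.DeltaFun.under_shortExact M
    let δ : (G.D.F 0).obj (cokernel (Injective.ι M)) ⟶ (G.D.F 1).obj M := G.D.δ hS 0
    let e₂ : (G.D.F 0).obj (Injective.under M) ≅ (gamF T).obj (Injective.under M) := G.e.app _
    let e₃ : (G.D.F 0).obj (cokernel (Injective.ι M)) ≅ (gamF T).obj (cokernel (Injective.ι M)) :=
      G.e.app _
    have nat : ∀ x, e₃.hom.hom (((G.D.F 0).map π).hom x) = ((gamF T).map π).hom (e₂.hom.hom x) :=
      fun x => congr($(G.e.hom.naturality π) x)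
    change δ.hom (e₃.inv.hom z) = 0 ↔ _
    refine ⟨fun h => ?_, fun h => ?_⟩
    · obtain ⟨x, hx⟩ := (ShortComplex.moduleCat_exact_iff _).1 (G.D.exact₃ hS 0) _ h
      let w : gam T (Injective.under M : ModuleCat.{u} A) := e₂.hom.hom x
      have h1 : ((gamF T).map π).hom w = z :=
        (nat x).symm.trans ((congrArg e₃.hom.hom hx).trans (hom_inv_apply e₃ z))
      exact ⟨w.1, w.2, congrArg Subtype.val h1⟩
    · obtain ⟨w, hw, hwz⟩ := h
      let x := e₂.inv.hom (⟨w, hw⟩ : gam T (Injective.under M : ModuleCat.{u} A))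
      have h1 : ((gamF T).map π).hom (e₂.hom.hom x) = z := by
        rw [hom_inv_apply]
        exact Subtype.ext hwz
      have h2 : e₃.inv.hom z = ((G.D.F 0).map π).hom x := by
        rw [← h1, ← nat, inv_hom_apply]
      rw [h2]
      exact congr($(G.D.map_comp_δ hS 0) x)
  | n + 2, M, z => by
    have hS : (LocCohLib.DeltaFun.under (ModuleCat.{u} A) M).ShortExact :=
      LocCohLib.DeltaFun.under_shortExact M
    have hE := G.eff (Injective.under M) inferInstance
    let δ : (G.D.F (n + 1)).obj (cokernel (Injective.ι M)) ⟶ (G.D.F (n + 2)).obj M :=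
      G.D.δ hS (n + 1)
    have hiso : IsIso δ := G.D.isIso_δ hS (n + 1) (hE n) (hE (n + 1))
    have hbij := (ConcreteCategory.isIso_iff_bijective δ).1 hiso
    exact (map_eq_zero_iff δ.hom hbij.1).trans
      (cyc_eq_zero_iff G (n + 1) (cokernel (Injective.ι M)) z)

variable (G : GammaDelta T) (G' : GammaDelta T') (h : T ⊆ T')
  (α : ∀ i, G.D.F i ⟶ G'.D.F i)
  (hδ : ∀ (M : ModuleCat.{u} A) (i : ℕ),
    G.D.δ (LocCohLib.DeltaFun.under_shortExact M) i ≫
        (α (i + 1)).app (LocCohLib.DeltaFun.under (ModuleCat.{u} A) M).X₁ =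
      (α i).app (LocCohLib.DeltaFun.under (ModuleCat.{u} A) M).X₃ ≫
        G'.D.δ (LocCohLib.DeltaFun.under_shortExact M) i)
  (h0 : ∀ (M : ModuleCat.{u} A) (x : (G.D.F 0).obj M),
    ((G'.e.app M).hom.hom (((α 0).app M).hom x) : gam T' M).1 = ((G.e.app M).hom.hom x : gam T M).1)
include h hδ h0

theorem map_cyc : ∀ (i : ℕ) (M : ModuleCat.{u} A) (z : gam T (Zr M i)),
    ((α i).app M).hom (cyc G i M z) = cyc G' i M ⟨z.1, gam_mono h z.2⟩
  | 0, M, z => by
    have h1 : (G'.e.app M).hom.hom (((α 0).app M).hom ((G.e.app M).inv.hom z)) =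
        (⟨z.1, gam_mono h z.2⟩ : gam T' M) :=
      Subtype.ext ((h0 M _).trans (congrArg Subtype.val (hom_inv_apply (G.e.app M) z)))
    exact (inv_hom_apply (G'.e.app M) _).symm.trans (congrArg (G'.e.app M).inv.hom h1)
  | n + 1, M, z =>
    Eq.trans (congr($(hδ M n) (cyc G n (cokernel (Injective.ι M)) z)))
      (congrArg (G'.D.δ (LocCohLib.DeltaFun.under_shortExact M) n).hom
        (map_cyc n (cokernel (Injective.ι M)) z))

/-- Bijectivity of the comparison, in terms of cycles. -/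
theorem bijective_of_cycles (i : ℕ) (M : ModuleCat.{u} A)
    (hsurj : ∀ z ∈ gam T' (Zr M i), ∃ z' ∈ gam T (Zr M i), Bnd T' i M (z - z'))
    (hinj : ∀ z ∈ gam T (Zr M i), Bnd T' i M z → Bnd T i M z) :
    Function.Bijective ((α i).app M).hom := by
  refine ⟨(injective_iff_map_eq_zero _).2 fun x hx => ?_, fun y => ?_⟩
  · obtain ⟨z, rfl⟩ := cyc_surjective G i M x
    rw [map_cyc G G' h α hδ h0] at hx
    exact (cyc_eq_zero_iff G i M z).2 (hinj z.1 z.2 ((cyc_eq_zero_iff G' i M _).1 hx))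
  · obtain ⟨z, rfl⟩ := cyc_surjective G' i M y
    obtain ⟨z', hz', hb⟩ := hsurj z.1 z.2
    refine ⟨cyc G i M ⟨z', hz'⟩, ?_⟩
    rw [map_cyc G G' h α hδ h0, eq_comm, ← sub_eq_zero, ← map_sub]
    exact (cyc_eq_zero_iff G' i M _).2 hb

end Cyc

variable [IsNoetherianRing A]

/-- Gluing corrections at the points of an antichain. -/
theorem exists_glue {T₀ : Set (PrimeSpectrum A)} (hT₀ : StableUnderSpecialization T₀)
    (S : Set (PrimeSpectrum A)) (hST : S ⊆ T₀) (hS : ∀ q ∈ S, ∀ r ∈ T₀, r ≤ q → r = q)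
    {K V : Type u} [AddCommGroup K] [Module A K] [AddCommGroup V] [Module A V] (f : K →ₗ[A] V)
    (z : V) (hz : z ∈ gam T₀ V)
    (hpt : ∀ q ∈ S, ∃ w ∈ gam (PrimeSpectrum.zeroLocus (q.asIdeal : Set A)) K,
      ∃ C ∉ q.asIdeal, C • ((1 : A) • z - f w) = 0) :
    ∃ w ∈ gam T₀ K, (1 : A) • z - f w ∈ gam (T₀ \ S) V := by
  classical
  let Z := LinearMap.ker (LinearMap.toSpanSingleton A V z)
  have hsupp : ∀ r : PrimeSpectrum A, Z ≤ r.asIdeal → r ∈ T₀ := fun r hr => by
    by_contra h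
    obtain ⟨s, hs, hsz⟩ := mem_gam_iff.1 hz r h
    exact hs (hr hsz)
  have hfin : {q : PrimeSpectrum A | q ∈ S ∧ Z ≤ q.asIdeal}.Finite := by
    refine Set.Finite.subset ((Ideal.finite_minimalPrimes_of_isNoetherianRing A Z).preimage
      (f := PrimeSpectrum.asIdeal) fun p _ q _ h => PrimeSpectrum.ext h) ?_
    rintro q ⟨hqS, hq⟩
    refine ⟨⟨q.isPrime, hq⟩, fun r hr hrq => ?_⟩
    exact le_of_eq (congrArg PrimeSpectrum.asIdeal
      (hS q hqS ⟨r, hr.1⟩ (hsupp ⟨r, hr.1⟩ hr.2) hrq)).symm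
  choose w hw C hC hCz using hpt
  let F := hfin.toFinset
  have hF : ∀ q ∈ F, q ∈ S := fun q hq => ((Set.Finite.mem_toFinset _).1 hq).1
  refine ⟨∑ q ∈ F.attach, w q.1 (hF q.1 q.2), sum_mem fun q _ =>
    gam_mono (zeroLocus_subset hT₀ (hST (hF q.1 q.2))) (hw q.1 _), ?_⟩
  rw [mem_gam_iff]
  intro r hr
  have hout : ∀ q : {q // q ∈ F}, q.1 ≠ r → (r ∈ S ∨ r ∉ T₀) →
      ∃ s ∉ r.asIdeal, s • f (w q.1 (hF q.1 q.2)) = 0 := by
    intro q hne hr'
    refine mem_gam_iff.1 (map_mem_gam _ (hw q.1 _)) r fun h => ?_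
    rcases hr' with hr' | hr'
    · exact hne (hS r hr' q.1 (hST (hF q.1 q.2)) h)
    · exact hr' (zeroLocus_subset hT₀ (hST (hF q.1 q.2)) h)
  by_cases hrT : r ∈ T₀
  · have hrS : r ∈ S := by_contra fun h => hr ⟨hrT, h⟩
    by_cases hrF : r ∈ F
    · have hothers : ∀ q : {q // q ∈ F}, ∃ s ∉ r.asIdeal,
          q.1 ≠ r → s • f (w q.1 (hF q.1 q.2)) = 0 := fun q => by
        by_cases h : q.1 = r
        · exact ⟨1, fun h1 => r.isPrime.ne_top ((Ideal.eq_top_iff_one _).2 h1), fun h' => absurd h h'⟩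
        · obtain ⟨s, hs, hs'⟩ := hout q h (Or.inl hrS)
          exact ⟨s, hs, fun _ => hs'⟩
      choose s hs hsw using hothers
      refine ⟨(∏ q ∈ F.attach, s q) * C r hrS, fun h => ?_, ?_⟩
      · rcases r.isPrime.mem_or_mem h with h | h
        · obtain ⟨q, -, hq⟩ := r.isPrime.prod_mem_iff.1 h
          exact hs q hq
        · exact hC r hrS h
      · rw [map_sum, ← Finset.add_sum_erase _ _ (Finset.mem_attach F ⟨r, hrF⟩), ← sub_sub, smul_sub,
          mul_smul, hCz r hrS, smul_zero, zero_sub, neg_eq_zero, Finset.smul_sum]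
        refine Finset.sum_eq_zero fun q hq => ?_
        obtain ⟨hne, -⟩ := Finset.mem_erase.1 hq
        obtain ⟨d, hd⟩ := Finset.dvd_prod_of_mem s (Finset.mem_attach F q)
        rw [hd, show s q * d * C r hrS = d * C r hrS * s q by ring, mul_smul,
          hsw q fun h => hne (Subtype.ext h), smul_zero]
    · obtain ⟨s, hs, hsr⟩ := Set.not_subset.1 fun h : (Z : Set A) ⊆ r.asIdeal =>
        hrF ((Set.Finite.mem_toFinset _).2 ⟨hrS, h⟩)
      have hothers : ∀ q : {q // q ∈ F}, ∃ t ∉ r.asIdeal,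
          t • f (w q.1 (hF q.1 q.2)) = 0 := fun q =>
        hout q (fun h => hrF (h ▸ q.2)) (Or.inl hrS)
      choose t ht htw using hothers
      exact kill_sub f 1 z _ r hsr hs F.attach (fun q => w q.1 (hF q.1 q.2)) t ht htw
  · obtain ⟨s, hs, hsz⟩ := mem_gam_iff.1 hz r hrT
    have hothers : ∀ q : {q // q ∈ F}, ∃ t ∉ r.asIdeal,
        t • f (w q.1 (hF q.1 q.2)) = 0 := fun q =>
      hout q (fun h => hrT (h ▸ hST (hF q.1 q.2))) (Or.inr hrT)
    choose t ht htw using hothers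
    exact kill_sub f 1 z s r hs hsz F.attach (fun q => w q.1 (hF q.1 q.2)) t ht htw

/-- One stratum for boundaries: a chain whose image avoids `S` can be changed by a boundary to
avoid `S`. -/
theorem exists_stage_chain {T₀ : Set (PrimeSpectrum A)} (hT₀ : StableUnderSpecialization T₀)
    (S : Set (PrimeSpectrum A)) (hST : S ⊆ T₀) (hS : ∀ q ∈ S, ∀ r ∈ T₀, r ≤ q → r = q)
    (n : ℕ) (M : ModuleCat.{u} A) (hloc : ∀ q ∈ S, LocKill q n M 1)
    (w : Kr M n) (hw : w ∈ gam T₀ (Kr M n))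
    (hπ : (piR M n).hom w ∈ gam (T₀ \ S) (Zr M (n + 1))) :
    ∃ v ∈ gam (T₀ \ S) (Kr M n), (piR M n).hom v = (piR M n).hom w := by
  classical
  let Z := LinearMap.ker (LinearMap.toSpanSingleton A (Kr M n) w)
  have hsupp : ∀ r : PrimeSpectrum A, Z ≤ r.asIdeal → r ∈ T₀ := fun r hr => by
    by_contra h
    obtain ⟨s, hs, hsz⟩ := mem_gam_iff.1 hw r h
    exact hs (hr hsz)
  have key : ∀ q ∈ S, ∃ C ∉ q.asIdeal, ∃ v ∈ gam (PrimeSpectrum.zeroLocus (q.asIdeal : Set A))
      (Zr M n), (iotaR M n).hom v = C • w := by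
    intro q hq
    obtain ⟨c, hc, hcw⟩ := exists_scale q (hS q hq) Z hsupp w (fun x hx => hx)
    obtain ⟨s, hs, hsw⟩ := mem_gam_iff.1 hπ q fun h => h.2 hq
    obtain ⟨v, hv⟩ := (exact_R n M ((s * c) • w)).1 (by
      rw [map_smul, mul_comm, mul_smul, hsw, smul_zero])
    refine ⟨s * c, fun h => (q.isPrime.mem_or_mem h).elim hs hc, v, ?_, hv⟩
    refine mem_gam_of_injective _ (iotaR_injective n M) ?_
    rw [hv, mul_smul]
    exact Submodule.smul_mem _ _ hcw
  match n, hloc, w, hw, hπ, key with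
  | 0, hloc, w, hw, hπ, key =>
    refine ⟨w, mem_gam_iff.2 fun r hr => ?_, rfl⟩
    by_cases hrT : r ∈ T₀
    · have hrS : r ∈ S := by_contra fun h => hr ⟨hrT, h⟩
      obtain ⟨C, hC, v, hv, hvw⟩ := key r hrS
      obtain ⟨t, ht, htv⟩ := hloc r hrS v hv
      refine ⟨t * C, fun h => (r.isPrime.mem_or_mem h).elim ht hC, ?_⟩
      rw [one_smul] at htv
      change t • v = 0 at htv
      rw [mul_smul, ← hvw, ← map_smul, htv, map_zero]
    · exact mem_gam_iff.1 hw r hrT
  | m + 1, hloc, w, hw, hπ, key =>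
    have hpt : ∀ q ∈ S, ∃ y ∈ gam (PrimeSpectrum.zeroLocus (q.asIdeal : Set A)) (Kr M m),
        ∃ C ∉ q.asIdeal,
          C • ((1 : A) • w - ((iotaR M (m + 1)).hom ∘ₗ (piR M m).hom) y) = 0 := by
      intro q hq
      obtain ⟨C, hC, v, hv, hvw⟩ := key q hq
      obtain ⟨t, ht, y, hy, hyv⟩ := hloc q hq v hv
      obtain ⟨y', hy', e, he, hey⟩ := exists_div (baer_Kr m M) q hy (t * C)
        (fun h => (q.isPrime.mem_or_mem h).elim ht hC)
      refine ⟨y', hy', e * (t * C),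
        fun h => (q.isPrime.mem_or_mem h).elim he (fun h => (q.isPrime.mem_or_mem h).elim ht hC), ?_⟩
      rw [smul_sub, sub_eq_zero] at hey
      rw [one_smul, smul_sub, LinearMap.comp_apply, ← map_smul, ← map_smul, mul_smul e (t * C) y',
        hey, map_smul, hyv, one_smul, map_smul, map_smul, hvw, ← smul_smul, ← smul_smul, sub_self]
    obtain ⟨y, hy, hyw⟩ := exists_glue hT₀ S hST hS ((iotaR M (m + 1)).hom ∘ₗ (piR M m).hom) w hw hpt
    refine ⟨_, hyw, ?_⟩
    rw [one_smul, map_sub, LinearMap.comp_apply, (exact_R (m + 1) M).apply_apply_eq_zero, sub_zero]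

variable {T₀ T₁ : Set (PrimeSpectrum A)}

/-- The strata between `T₀` and `T₁`. -/
theorem stage_data (h0 : StableUnderSpecialization T₀) (h1 : StableUnderSpecialization T₁)
    (h01 : T₀ ⊆ T₁) (deg : PrimeSpectrum A → ℤ) (hdeg : StrictMono deg) (r : ℤ) :
    let Tr : Set (PrimeSpectrum A) := {q | q ∈ T₀ ∨ q ∈ T₁ ∧ r ≤ deg q}
    let S : Set (PrimeSpectrum A) := {q | q ∈ T₁ ∧ q ∉ T₀ ∧ deg q = r}
    StableUnderSpecialization Tr ∧ S ⊆ Tr ∧ (∀ q ∈ S, ∀ g ∈ Tr, g ≤ q → g = q) ∧ Tr ⊆ T₁ ∧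
      T₀ ⊆ Tr \ S ∧ Tr \ S ⊆ {q | q ∈ T₀ ∨ q ∈ T₁ ∧ r + 1 ≤ deg q} := by
  refine ⟨fun x y hxy hx => ?_, fun q hq => Or.inr ⟨hq.1, hq.2.2.ge⟩, fun q hq g hg hgq => ?_,
    fun q hq => hq.elim (fun h => h01 h) (fun h => h.1), fun q hq => ⟨Or.inl hq, fun h => h.2.1 hq⟩,
    fun q ⟨hq, hqS⟩ => ?_⟩
  · rcases hx with hx | ⟨hx, hx'⟩
    · exact Or.inl (h0 hxy hx)
    · exact Or.inr ⟨h1 hxy hx, hx'.trans (hdeg.monotone ((PrimeSpectrum.le_iff_specializes x y).2 hxy))⟩
  · rcases eq_or_lt_of_le hgq with h | h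
    · exact h
    · rcases hg with hg | ⟨-, hg⟩
      · exact absurd (h0 ((PrimeSpectrum.le_iff_specializes g q).1 hgq) hg) hq.2.1
      · have := hdeg h
        have := hq.2.2
        omega
  · by_cases hq0 : q ∈ T₀
    · exact Or.inl hq0
    · rcases hq with hq | ⟨h1', h2⟩
      · exact Or.inl hq
      · refine Or.inr ⟨h1', ?_⟩
        have : deg q ≠ r := fun h => hqS ⟨h1', hq0, h⟩
        omega

variable (h0 : StableUnderSpecialization T₀) (h1 : StableUnderSpecialization T₁)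
  (h01 : T₀ ⊆ T₁) (deg : PrimeSpectrum A → ℤ) (hdeg : StrictMono deg) (l b : ℤ)
  (hb : ∀ q, l ≤ deg q ∧ deg q ≤ b) (i : ℕ) (M : ModuleCat.{u} A)
include h0 h1 h01 hdeg hb

theorem exists_cycle_of_locKill (hloc : ∀ q ∈ T₁, q ∉ T₀ → LocKill q i M 1)
    (z : Zr M i) (hz : z ∈ gam T₁ (Zr M i)) :
    ∃ z' ∈ gam T₀ (Zr M i), Bnd T₁ i M (z - z') := by
  suffices H : ∀ (N : ℕ) (r : ℤ), b < r + N → ∀ z ∈ gam {q | q ∈ T₀ ∨ q ∈ T₁ ∧ r ≤ deg q} (Zr M i),
      ∃ z' ∈ gam T₀ (Zr M i), Bnd T₁ i M (z - z') by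
    exact H (b - l + 1).toNat l (by omega) z
      (gam_mono (fun q hq => Or.inr ⟨hq, (hb q).1⟩) hz)
  intro N
  induction N with
  | zero =>
    intro r hr z hz
    refine ⟨z, gam_mono (fun q hq => hq.elim id fun h => ?_) hz, by rw [sub_self]; exact Bnd.zero i M⟩
    have := (hb q).2
    have := h.2
    omega
  | succ N ih =>
    intro r hr z hz
    obtain ⟨hTr, hST, hS, hsub, -, hnext⟩ := stage_data h0 h1 h01 deg hdeg r
    match i with
    | 0 =>
      have h := exists_stage_zero _ hS 1 M (fun q hq => hloc q hq.1 hq.2.1) z hz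
      rw [one_smul] at h
      exact ih (r + 1) (by omega) z (gam_mono hnext h)
    | n + 1 =>
      obtain ⟨w, hw, hzw⟩ := exists_stage hTr _ hST hS 1 n M (fun q hq => hloc q hq.1 hq.2.1) z hz
      obtain ⟨z', hz', w', hw', hw'z⟩ := ih (r + 1) (by omega) _ (gam_mono hnext hzw)
      refine ⟨z', hz', w + w', add_mem (gam_mono hsub hw) hw', ?_⟩
      rw [map_add, hw'z, one_smul]
      abel

theorem bnd_of_locKill (hloc : ∀ q ∈ T₁, q ∉ T₀ → ∀ n < i, LocKill q n M 1)
    (z : Zr M i) (hz : z ∈ gam T₀ (Zr M i)) (hzb : Bnd T₁ i M z) : Bnd T₀ i M z := by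
  match i with
  | 0 => exact hzb
  | n + 1 =>
    obtain ⟨w, hw, rfl⟩ := hzb
    suffices H : ∀ (N : ℕ) (r : ℤ), b < r + N → ∀ v ∈ gam {q | q ∈ T₀ ∨ q ∈ T₁ ∧ r ≤ deg q} (Kr M n),
        (piR M n).hom v ∈ gam T₀ (Zr M (n + 1)) → Bnd T₀ (n + 1) M ((piR M n).hom v) by
      exact H (b - l + 1).toNat l (by omega) w (gam_mono (fun q hq => Or.inr ⟨hq, (hb q).1⟩) hw) hz
    intro N
    induction N with
    | zero =>
      intro r hr v hv _
      refine ⟨v, gam_mono (fun q hq => hq.elim id fun h => ?_) hv, rfl⟩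
      have := (hb q).2
      have := h.2
      omega
    | succ N ih =>
      intro r hr v hv hπ
      obtain ⟨hTr, hST, hS, -, hle, hnext⟩ := stage_data h0 h1 h01 deg hdeg r
      obtain ⟨v', hv', hvv⟩ := exists_stage_chain hTr _ hST hS n M
        (fun q hq => hloc q hq.1 hq.2.1 n (Nat.lt_succ_self n)) v hv (gam_mono hle hπ)
      rw [← hvv] at hπ ⊢
      exact ih (r + 1) (by omega) v' (gam_mono hnext hv') hπ

omit h0 h1 h01 hdeg hb

open Groth.Agent.DualCxLib in
/-- Depth bigger than `s` gives local vanishing. -/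
theorem locKill_one_of_lt_depth {ω : Dual.D A} (hω : Dual.IsDualizing A ω) (M : Type u)
    [AddCommGroup M] [Module A M] [Module.Finite A M] (q : PrimeSpectrum A) (s : ℕ)
    (hd : (s : ℕ∞) < LocCoh.depth (Localization.AtPrime q.asIdeal)
      (LocalizedModule q.asIdeal.primeCompl M)) (j : ℕ) (hj : j ≤ s) :
    LocKill q j (ModuleCat.of A M) 1 := by
  refine (locKill_iff q j (ModuleCat.of A M) 1).1 ((locally_killed_iff q hω M j 1).2 fun f => ?_)
  have hle : ((s + 1 : ℕ) : ℕ∞) ≤ LocCoh.depth (Localization.AtPrime q.asIdeal)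
      (LocalizedModule q.asIdeal.primeCompl M) := by
    rw [Nat.cast_add, Nat.cast_one]
    exact Order.add_one_le_of_lt hd
  obtain ⟨t, ht, htf⟩ := (le_depth_iff_van hω q (s + 1) M).1 hle j (by omega) f
  exact ⟨t, ht, by rw [one_smul]; exact htf⟩

/-- The comparison maps of local cohomology are bijective when the depth is big in between. -/
theorem bijective_HmapOfLE {ω : Dual.D A} (hω : Dual.IsDualizing A ω) (M : Type u)
    [AddCommGroup M] [Module A M] [Module.Finite A M] {J J' : Ideal A} (hJ : J' ≤ J) (s : ℕ)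
    (hd : ∀ q : PrimeSpectrum A, J' ≤ q.asIdeal → ¬ J ≤ q.asIdeal →
      (s : ℕ∞) < LocCoh.depth (Localization.AtPrime q.asIdeal)
        (LocalizedModule q.asIdeal.primeCompl M)) (i : ℕ) (hi : i ≤ s) :
    Function.Bijective ((Dual2.HmapOfLE hJ i).app (ModuleCat.of A M)).hom := by
  obtain ⟨lo, hi', hb⟩ := exists_deg_bounds hω
  have hst : ∀ K : Ideal A, StableUnderSpecialization (PrimeSpectrum.zeroLocus (K : Set A)) :=
    fun K => (PrimeSpectrum.isClosed_zeroLocus _).stableUnderSpecialization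
  have hsub : PrimeSpectrum.zeroLocus (J : Set A) ⊆ PrimeSpectrum.zeroLocus (J' : Set A) :=
    fun q hq => Set.Subset.trans (show (J' : Set A) ⊆ J from hJ) hq
  have hloc : ∀ q ∈ PrimeSpectrum.zeroLocus (J' : Set A), q ∉ PrimeSpectrum.zeroLocus (J : Set A) →
      ∀ j ≤ s, LocKill q j (ModuleCat.of A M) 1 := fun q hq hq' j hj =>
    locKill_one_of_lt_depth hω M q s (hd q hq hq') j hj
  refine bijective_of_cycles (lcGD J) (lcGD J') hsub (fun j => Dual2.HmapOfLE hJ j)
    (fun N j => LocCohLib.δ_HmapOfLE hJ _ j) (fun N x => ?_) i _ (fun z hz => ?_) (fun z hz hzb => ?_)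
  · exact LocCohLib.lcZeroIso_HmapOfLE hJ N x
  · exact exists_cycle_of_locKill (hst J) (hst J') hsub (DualCxLib.deg hω)
      (DualCxLib.deg_strictMono hω) lo hi' hb i _ (fun q hq hq' => hloc q hq hq' i hi) z hz
  · exact bnd_of_locKill (hst J) (hst J') hsub (DualCxLib.deg hω)
      (DualCxLib.deg_strictMono hω) lo hi' hb i _
      (fun q hq hq' n hn => hloc q hq hq' n (hn.le.trans hi)) z hz hzb

end LcFinLib
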