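import Groth.Prelude.Def_DRing3
import Groth.Prelude.Def_DualLC
import Groth.Agent.LocCohLib.Injective

/-!
Sections supported in a set of primes `T`: the elements killed by an ideal `J` with `V(J) ⊆ T`.
-/

set_option autoImplicit false
universe u

open CategoryTheory

namespace LcFinLib

variable {A : Type u} [CommRing A]

/-- The submodule of elements killed by some ideal `J` with `V(J) ⊆ T`. -/
def gam (T : Set (PrimeSpectrum A)) (M : Type u) [AddCommGroup M] [Module A M] : Submodule A M where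
  carrier := {x | ∃ J : Ideal A, PrimeSpectrum.zeroLocus (J : Set A) ⊆ T ∧ ∀ a ∈ J, a • x = 0}
  zero_mem' := by
    refine ⟨⊤, ?_, fun a _ => ?_⟩
    · intro q hq
      exact absurd (top_le_iff.1 hq) q.isPrime.ne_top
    · exact smul_zero (A := M) a
  add_mem' := by
    rintro x y ⟨J, hJ, hx⟩ ⟨J', hJ', hy⟩
    refine ⟨J * J', ?_, fun a ha => ?_⟩
    · rw [PrimeSpectrum.zeroLocus_mul]
      exact Set.union_subset hJ hJ'
    · have h1 : a ∈ J := (Ideal.mul_le_left (I := J) (J := J') : J * J' ≤ J) ha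
      have h2 : a ∈ J' := (Ideal.mul_le_right (I := J) (J := J') : J * J' ≤ J') ha
      rw [smul_add, hx a h1, hy a h2, add_zero]
  smul_mem' := by
    rintro c x ⟨J, hJ, hx⟩
    exact ⟨J, hJ, fun a ha => by rw [smul_comm, hx a ha, smul_zero]⟩

variable {T T' : Set (PrimeSpectrum A)} {M N : Type u} [AddCommGroup M] [Module A M]
  [AddCommGroup N] [Module A N]

theorem gam_mono (h : T ⊆ T') : gam T M ≤ gam T' M := fun _ ⟨J, hJ, hx⟩ => ⟨J, hJ.trans h, hx⟩

theorem map_mem_gam (f : M →ₗ[A] N) {x : M} (hx : x ∈ gam T M) : f x ∈ gam T N := by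
  obtain ⟨J, hJ, hJx⟩ := hx
  exact ⟨J, hJ, fun a ha => by rw [← map_smul, hJx a ha, map_zero]⟩

theorem mem_gam_of_injective (f : M →ₗ[A] N) (hf : Function.Injective f) {x : M}
    (hx : f x ∈ gam T N) : x ∈ gam T M := by
  obtain ⟨J, hJ, hJx⟩ := hx
  exact ⟨J, hJ, fun a ha => hf (by rw [map_smul, hJx a ha, map_zero])⟩

/-- Membership only depends on the localizations outside `T`. -/
theorem mem_gam_iff {x : M} :
    x ∈ gam T M ↔ ∀ q : PrimeSpectrum A, q ∉ T → ∃ s ∉ q.asIdeal, s • x = 0 := by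
  constructor
  · rintro ⟨J, hJ, hx⟩ q hq
    obtain ⟨s, hs, hsq⟩ := Set.not_subset.1 fun h => hq (hJ h)
    exact ⟨s, hsq, hx s hs⟩
  · intro h
    refine ⟨LinearMap.ker (LinearMap.toSpanSingleton A M x), fun q hq => ?_, fun a ha => ha⟩
    by_contra hqT
    obtain ⟨s, hs, hsx⟩ := h q hqT
    exact hs (hq (show s • x = 0 from hsx))

theorem gam_gam : gam T (gam T M) = ⊤ := eq_top_iff.2 fun x _ => by
  obtain ⟨J, hJ, hx⟩ := x.2
  exact ⟨J, hJ, fun a ha => Subtype.ext (hx a ha)⟩

/-- `Γ_T` as a functor. -/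
def gamF (T : Set (PrimeSpectrum A)) : ModuleCat.{u} A ⥤ ModuleCat.{u} A where
  obj M := ModuleCat.of A (gam T M)
  map {M N} f := ModuleCat.ofHom (f.hom.restrict fun _ hm => map_mem_gam f.hom hm)

/-- `Γ_{V(I)}` is the power torsion. -/
theorem gam_zeroLocus [IsNoetherianRing A] (I : Ideal A) (M : Type u) [AddCommGroup M] [Module A M] :
    gam (PrimeSpectrum.zeroLocus (I : Set A)) M = DRing.torsionSub I M := by
  ext x
  constructor
  · rintro ⟨J, hJ, hx⟩
    have h : I ≤ J.radical := by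
      have h1 := PrimeSpectrum.vanishingIdeal_anti_mono hJ
      rw [PrimeSpectrum.vanishingIdeal_zeroLocus_eq_radical,
        PrimeSpectrum.vanishingIdeal_zeroLocus_eq_radical] at h1
      exact Ideal.le_radical.trans h1
    obtain ⟨n, hn⟩ := Ideal.exists_pow_le_of_le_radical_of_fg h (IsNoetherian.noetherian I)
    exact ⟨n, fun a ha => hx a (hn ha)⟩
  · rintro ⟨n, hn⟩
    rcases Nat.eq_zero_or_pos n with rfl | hn0
    · have : x = 0 := by simpa using hn 1 (by simp)
      rw [this]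
      exact zero_mem _
    · refine ⟨I ^ n, ?_, hn⟩
      intro q hq
      exact (Ideal.IsPrime.pow_le_iff hn0.ne').1 hq

theorem baer_gam [IsNoetherianRing A] {E : Type u} [AddCommGroup E] [Module A E]
    (hE : Module.Baer A E) (T : Set (PrimeSpectrum A)) : Module.Baer A (gam T E) := by
  classical
  intro L g
  obtain ⟨G, hG⟩ := (IsNoetherian.noetherian L : Submodule.FG L)
  choose J hJT hJ using fun y : L => (g y).2
  let gen : {y // y ∈ G} → L := fun y => ⟨y.1, hG ▸ Submodule.subset_span y.2⟩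
  let I : Ideal A := ∏ y ∈ G.attach, J (gen y)
  have hIT : PrimeSpectrum.zeroLocus (I : Set A) ⊆ T := fun q hq => by
    obtain ⟨y, -, hy⟩ := (Ideal.IsPrime.prod_le q.isPrime).1 (show I ≤ q.asIdeal from hq)
    exact hJT (gen y) hy
  have hmem : ∀ y : L, (g y : E) ∈ DRing.torsionSub I E := by
    rintro ⟨y, hy⟩
    refine ⟨1, fun a ha => ?_⟩
    rw [pow_one] at ha
    have hy' := hy
    rw [← hG] at hy'
    induction hy' using Submodule.span_induction with
    | mem z hz =>
      exact hJ (gen ⟨z, hz⟩) a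
        ((Ideal.prod_le_inf.trans (Finset.inf_le (Finset.mem_attach G ⟨z, hz⟩))) ha)
    | zero =>
      rw [show (⟨0, hy⟩ : L) = 0 from rfl, map_zero, Submodule.coe_zero, smul_zero]
    | add z w hz hw ihz ihw =>
      rw [show (⟨z + w, hy⟩ : L) = ⟨z, hG ▸ hz⟩ + ⟨w, hG ▸ hw⟩ from rfl, map_add,
        Submodule.coe_add, smul_add, ihz (hG ▸ hz), ihw (hG ▸ hw), add_zero]
    | smul r z hz ih =>
      rw [show (⟨r • z, hy⟩ : L) = r • ⟨z, hG ▸ hz⟩ from rfl, map_smul, Submodule.coe_smul,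
        smul_comm, ih (hG ▸ hz), smul_zero]
  obtain ⟨g', hg'⟩ := LocCohLib.baer_torsionSub hE I L
    (((gam T E).subtype ∘ₗ g).codRestrict _ hmem)
  have hle : DRing.torsionSub I E ≤ gam T E := by
    rw [← gam_zeroLocus]
    exact gam_mono hIT
  exact ⟨Submodule.inclusion hle ∘ₗ g', fun y hy =>
    Subtype.ext congr(($(hg' y hy) : E))⟩

end LcFinLib
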