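import Groth.Agent.LcFinLib.Gamma
import Groth.Agent.LocCohLib.LocalCohomology
import Groth.Agent.LocCohLib.Facts

/-!
`H^i_T` as an effaceable delta functor with degree zero part `Γ_T`.
-/

set_option autoImplicit false
set_option maxHeartbeats 400000
universe u

noncomputable section

open CategoryTheory Limits Opposite

namespace LcFinLib

variable {A : Type u} [CommRing A] (T : Set (PrimeSpectrum A))

instance instIsCofilteredIdealsIn : IsCofiltered (Dual2.IdealsIn T) where
  cone_objs J J' := by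
    refine ⟨⟨J.obj * J'.obj, ?_⟩, ⟨homOfLE Ideal.mul_le_left⟩, ⟨homOfLE Ideal.mul_le_right⟩, trivial⟩
    show PrimeSpectrum.zeroLocus ((J.obj * J'.obj : Ideal A) : Set A) ⊆ T
    rw [PrimeSpectrum.zeroLocus_mul]
    exact Set.union_subset J.property J'.property
  cone_maps {J J'} f g := ⟨J, 𝟙 J, ObjectProperty.hom_ext _ (Subsingleton.elim _ _)⟩
  nonempty := ⟨⟨⊤, fun q hq => absurd (top_le_iff.1 hq) q.isPrime.ne_top⟩⟩

instance instExactIdealsIn :
    HasExactColimitsOfShape (Dual2.IdealsIn T)ᵒᵖ (ModuleCat.{u} A) := inferInstance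

/-- The system `A/J`. -/
abbrev tSystem : Dual2.IdealsIn T ⥤ ModuleCat.{u} A :=
  localCohomology.ringModIdeals (Dual2.idealsInDiagram T)

/-- The chosen resolutions of the `A/J`. -/
def htSystem : LocCohLib.ResSystem (tSystem T) := LocCohLib.funSystem _

/-- `H^i_T` computed by a complex. -/
def htIso (i : ℕ) :
    localCohomology.ofDiagram.{u, u} (Dual2.idealsInDiagram T) i ≅ (htSystem T).coh i :=
  (htSystem T).colimExtIso i

/-- `H_T` as a delta functor. -/
def htDelta : LocCohLib.DeltaFun (ModuleCat.{u} A) (ModuleCat.{u} A) :=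
  (htSystem T).deltaFun.ofIso (fun i => localCohomology.ofDiagram.{u, u} (Dual2.idealsInDiagram T) i)
    (fun i => (htIso T i).symm)

theorem htDelta_effaceable : (htDelta T).Effaceable :=
  LocCohLib.DeltaFun.effaceable_ofIso (htSystem T).effaceable _ _

/-- Evaluation at `1`. -/
def evalT (J : Dual2.IdealsIn T) (M : ModuleCat.{u} A) :
    (ModuleCat.of A (ModuleCat.of A (A ⧸ J.obj) ⟶ M)) ⟶ (gamF T).obj M :=
  ModuleCat.ofHom
    { toFun := fun (x : ModuleCat.of A (A ⧸ J.obj) ⟶ M) => ⟨x.hom (1 : A ⧸ J.obj), J.obj, J.property,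
        fun a ha => by
          rw [← map_smul, Algebra.smul_def, mul_one, Ideal.Quotient.algebraMap_eq,
            Ideal.Quotient.eq_zero_iff_mem.2 ha, map_zero]⟩
      map_add' := fun x y => rfl
      map_smul' := fun r x => rfl }

/-- The colimit of the `Hom(A/J, M)` maps to `Γ_T M`. -/
def toGamT : ((tSystem T).op ⋙ linearCoyoneda A _).flip ⋙ colim ⟶ gamF T where
  app M := colimit.desc _ (Cocone.mk ((gamF T).obj M)
    { app := fun J => evalT T J.unop M
      naturality := fun n m f => by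
        ext (x : _ ⟶ M)
        exact Subtype.ext rfl })
  naturality M N g := by
    apply colimit.hom_ext
    intro n
    show _ ≫ colim.map _ ≫ _ = _
    simp only [colim_map, ι_colimMap_assoc, colimit.ι_desc, colimit.ι_desc_assoc]
    ext (x : _ ⟶ M)
    exact Subtype.ext rfl

theorem toGamT_ι (M : ModuleCat.{u} A) (J : (Dual2.IdealsIn T)ᵒᵖ) :
    colimit.ι (((tSystem T).op ⋙ linearCoyoneda A _).flip.obj M) J ≫ (toGamT T).app M =
      evalT T J.unop M :=
  colimit.ι_desc _ _

theorem isIso_toGamT (M : ModuleCat.{u} A) : IsIso ((toGamT T).app M) := by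
  let F := ((tSystem T).op ⋙ linearCoyoneda A _).flip.obj M
  rw [ConcreteCategory.isIso_iff_bijective]
  refine ⟨fun a b hab => ?_, fun ⟨m, J, hJ, hm⟩ => ?_⟩
  · obtain ⟨i, x, rfl⟩ := Concrete.colimit_exists_rep F a
    obtain ⟨j, y, rfl⟩ := Concrete.colimit_exists_rep F b
    obtain ⟨k, f, g, -⟩ := IsFilteredOrEmpty.cocone_objs i j
    have hfg : F.map f x = F.map g y := by
      show (show ModuleCat.of A (A ⧸ k.unop.obj) ⟶ M from F.map f x) = F.map g y
      apply ModuleCat.hom_ext
      apply Submodule.linearMap_qext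
      ext
      have h1 := congrArg Subtype.val hab
      exact ((congrArg (fun (φ : _ ⟶ (gamF T).obj M) => (φ x).1) (toGamT_ι T M i)).symm.trans
        h1).trans (congrArg (fun (φ : _ ⟶ (gamF T).obj M) => (φ y).1) (toGamT_ι T M j))
    exact (Concrete.colimit_rep_eq_iff_exists F x y).2 ⟨k, f, g, hfg⟩
  · let x : ModuleCat.of A (A ⧸ J) ⟶ M :=
      ModuleCat.ofHom (Submodule.liftQ J (LinearMap.toSpanSingleton A M m) fun a ha => hm a ha)
    let o : (Dual2.IdealsIn T)ᵒᵖ := op ⟨J, hJ⟩
    refine ⟨colimit.ι F o x, Subtype.ext ?_⟩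
    refine (congrArg (fun (φ : _ ⟶ (gamF T).obj M) => (φ x).1) (toGamT_ι T M o)).trans ?_
    exact one_smul A m

/-- Degree zero. -/
def htZeroIso : (htDelta T).F 0 ≅ gamF T :=
  htIso T 0 ≪≫ (htSystem T).cohZeroIso.symm ≪≫
    @asIso _ _ _ _ (toGamT T) (@NatIso.isIso_of_isIso_app _ _ _ _ _ _ (toGamT T) (isIso_toGamT T))

end LcFinLib
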