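import Groth.Agent.LcFinLib.Shift
import Mathlib.RingTheory.Ideal.MinimalPrime.Noetherian

/-!
From killing at the points of `T` to killing in `Γ_T`, and from `Γ_T` to smaller supports.
-/

set_option autoImplicit false
set_option maxHeartbeats 400000
universe u

noncomputable section

open CategoryTheory

namespace LcFinLib

variable {A : Type u} [CommRing A]

/-- `a` kills the cohomology with support `V(q)` in degree `i` locally at `q`. -/
def LocKill (q : PrimeSpectrum A) (i : ℕ) (M : ModuleCat.{u} A) (a : A) : Prop :=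
  ∀ z ∈ gam (PrimeSpectrum.zeroLocus (q.asIdeal : Set A)) (Zr M i),
    ∃ s ∉ q.asIdeal, Bnd (PrimeSpectrum.zeroLocus (q.asIdeal : Set A)) i M (s • a • z)

theorem zeroLocus_subset {T : Set (PrimeSpectrum A)} (hT : StableUnderSpecialization T)
    {q : PrimeSpectrum A} (hq : q ∈ T) : PrimeSpectrum.zeroLocus (q.asIdeal : Set A) ⊆ T :=
  fun r hr => hT ((PrimeSpectrum.le_iff_specializes q r).1 hr) hq

theorem exists_mul_subset {T T' : Set (PrimeSpectrum A)} {M : Type u} [AddCommGroup M] [Module A M]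
    {w : M} (hw : w ∈ gam T M) (hTT' : T ⊆ T') : w ∈ gam T' M := gam_mono hTT' hw

variable [IsNoetherianRing A]

/-- Division inside the sections supported at `q`. -/
theorem exists_div {E : Type u} [AddCommGroup E] [Module A E] (hE : Module.Baer A E)
    (q : PrimeSpectrum A) {w : E} (hw : w ∈ gam (PrimeSpectrum.zeroLocus (q.asIdeal : Set A)) E)
    (c : A) (hc : c ∉ q.asIdeal) :
    ∃ w' ∈ gam (PrimeSpectrum.zeroLocus (q.asIdeal : Set A)) E, ∃ e ∉ q.asIdeal,
      e • (c • w' - w) = 0 := by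
  classical
  rw [gam_zeroLocus] at hw
  obtain ⟨n, hn⟩ := hw
  let L : Ideal A :=
    { carrier := {x | ∃ e ∉ q.asIdeal, e * x ∈ q.asIdeal ^ n}
      zero_mem' := ⟨1, fun h => q.isPrime.ne_top ((Ideal.eq_top_iff_one _).2 h), by simp⟩
      add_mem' := by
        rintro x y ⟨e, he, hx⟩ ⟨e', he', hy⟩
        refine ⟨e * e', fun h => (q.isPrime.mem_or_mem h).elim he he', ?_⟩
        rw [show e * e' * (x + y) = e' * (e * x) + e * (e' * y) by ring]
        exact add_mem (Ideal.mul_mem_left _ _ hx) (Ideal.mul_mem_left _ _ hy)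
      smul_mem' := by
        rintro r x ⟨e, he, hx⟩
        refine ⟨e, he, ?_⟩
        rw [smul_eq_mul, show e * (r * x) = r * (e * x) by ring]
        exact Ideal.mul_mem_left _ _ hx }
  obtain ⟨e₀, he₀, hL⟩ : ∃ e₀ ∉ q.asIdeal, ∀ x ∈ L, e₀ * x ∈ q.asIdeal ^ n := by
    obtain ⟨G, hG⟩ := (IsNoetherian.noetherian L : Submodule.FG L)
    choose e he hex using fun x : L => (x.2 : (x : A) ∈ L)
    let g : {x // x ∈ G} → A := fun x => e ⟨x.1, hG ▸ Submodule.subset_span x.2⟩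
    refine ⟨∏ x ∈ G.attach, g x, fun h => ?_, fun x hx => ?_⟩
    · obtain ⟨x, -, hx⟩ := q.isPrime.prod_mem_iff.1 h
      exact he _ hx
    · have hle : L ≤ Submodule.comap (LinearMap.mulLeft A (∏ x ∈ G.attach, g x))
          (q.asIdeal ^ n) := by
        conv_lhs => rw [← hG]
        rw [Submodule.span_le]
        intro x hx
        obtain ⟨d, hd⟩ := Finset.dvd_prod_of_mem g (Finset.mem_attach G ⟨x, hx⟩)
        change (∏ x ∈ G.attach, g x) * x ∈ q.asIdeal ^ n
        rw [hd, mul_comm (g _) d, mul_assoc]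
        exact Ideal.mul_mem_left _ d (hex _)
      exact hle hx
  have hw₀ : ∀ x ∈ L, x • e₀ • w = 0 := fun x hx => by
    rw [smul_smul, mul_comm]; exact hn _ (hL x hx)
  let c' : A := c * e₀
  have hc' : c' ∉ q.asIdeal := fun h => (q.isPrime.mem_or_mem h).elim hc he₀
  have hdiv : ∀ x, c' * x ∈ L → x ∈ L := by
    rintro x ⟨e, he, hx⟩
    exact ⟨e * c', fun h => (q.isPrime.mem_or_mem h).elim he hc', by rwa [mul_assoc]⟩
  let Φ : A × L →ₗ[A] A :=
    LinearMap.coprod (LinearMap.toSpanSingleton A A c') L.subtype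
  let ψ : A × L →ₗ[A] E :=
    LinearMap.coprod (LinearMap.toSpanSingleton A E (e₀ • w)) 0
  have hker : LinearMap.ker Φ ≤ LinearMap.ker ψ := by
    rintro ⟨x, l⟩ h
    have h' : x * c' + (l : A) = 0 := h
    have hx : x ∈ L := by
      refine hdiv x ?_
      rw [mul_comm, eq_neg_of_add_eq_zero_left h']
      exact neg_mem l.2
    show x • e₀ • w + 0 = 0
    rw [hw₀ x hx, add_zero]
  let g₀ : LinearMap.range Φ →ₗ[A] E :=
    (LinearMap.ker Φ).liftQ ψ hker ∘ₗ Φ.quotKerEquivRange.symm.toLinearMap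
  obtain ⟨g, hg⟩ := hE (LinearMap.range Φ) g₀
  have hgΦ : ∀ y, g (Φ y) = ψ y := fun y => by
    rw [hg (Φ y) ⟨y, rfl⟩]
    simp only [g₀, LinearMap.comp_apply, LinearEquiv.coe_coe]
    rw [show Φ.quotKerEquivRange.symm ⟨Φ y, ⟨y, rfl⟩⟩ = Submodule.Quotient.mk y from
      Φ.quotKerEquivRange_symm_apply_image y ⟨y, rfl⟩]
    rfl
  refine ⟨g 1, ?_, e₀, he₀, ?_⟩
  · rw [gam_zeroLocus]
    refine ⟨n, fun a ha => ?_⟩
    have haL : a ∈ L := ⟨1, fun h => q.isPrime.ne_top ((Ideal.eq_top_iff_one _).2 h), by rwa [one_mul]⟩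
    have := hgΦ (0, ⟨a, haL⟩)
    simp only [Φ, ψ, LinearMap.coprod_apply, map_zero, zero_add, LinearMap.zero_apply,
      Submodule.subtype_apply] at this
    rw [← map_smul, smul_eq_mul, mul_one]
    exact this
  · have := hgΦ (1, 0)
    simp only [Φ, ψ, LinearMap.coprod_apply, map_zero, add_zero,
      LinearMap.toSpanSingleton_apply, one_smul] at this
    rw [smul_sub, smul_smul, sub_eq_zero, mul_comm, ← map_smul, smul_eq_mul, mul_one]
    exact this

theorem kill_sub {ι K V : Type*} [AddCommGroup K] [Module A K] [AddCommGroup V] [Module A V]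
    (f : K →ₗ[A] V) (a : A) (z : V) (s : A) (r : PrimeSpectrum A) (hs : s ∉ r.asIdeal)
    (hsz : s • z = 0) (F : Finset ι) (w : ι → K) (t : ι → A) (ht : ∀ q, t q ∉ r.asIdeal)
    (htw : ∀ q, t q • f (w q) = 0) :
    ∃ u ∉ r.asIdeal, u • (a • z - f (∑ q ∈ F, w q)) = 0 := by
  refine ⟨(∏ q ∈ F, t q) * s, fun h => ?_, ?_⟩
  · rcases r.isPrime.mem_or_mem h with h | h
    · obtain ⟨q, -, hq⟩ := r.isPrime.prod_mem_iff.1 h
      exact ht q hq
    · exact hs h
  · rw [smul_sub, mul_smul, smul_comm s a z, hsz, smul_zero, smul_zero, zero_sub, neg_eq_zero,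
      map_sum, Finset.smul_sum]
    refine Finset.sum_eq_zero fun q hq => ?_
    obtain ⟨d, hd⟩ := Finset.dvd_prod_of_mem t hq
    rw [hd, show t q * d * s = d * s * t q by ring, mul_smul, htw q, smul_zero]

/-- An element with support meeting `{≤ q}` only in `q` becomes supported in `V(q)` after scaling. -/
theorem exists_scale {M' : Type u} [AddCommGroup M'] [Module A M'] {T₀ : Set (PrimeSpectrum A)}
    (q : PrimeSpectrum A) (hq : ∀ r ∈ T₀, r ≤ q → r = q) (Z : Ideal A)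
    (hsupp : ∀ r : PrimeSpectrum A, Z ≤ r.asIdeal → r ∈ T₀) (z : M') (hZ : ∀ x ∈ Z, x • z = 0) :
    ∃ c ∉ q.asIdeal, c • z ∈ gam (PrimeSpectrum.zeroLocus (q.asIdeal : Set A)) M' := by
  classical
  let F := (Ideal.finite_minimalPrimes_of_isNoetherianRing A Z).toFinset.filter fun g => ¬ g ≤ q.asIdeal
  have hne : ∀ g : {g // g ∈ F}, ∃ e ∈ g.1, e ∉ q.asIdeal := fun g =>
    Set.not_subset.1 (Finset.mem_filter.1 g.2).2
  choose e he heq using hne
  let p : A := ∏ g ∈ F.attach, e g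
  have hp : p ∉ q.asIdeal := fun h => by
    obtain ⟨g, -, hg⟩ := q.isPrime.prod_mem_iff.1 h
    exact heq g hg
  have hrad : Ideal.span {p} * q.asIdeal ≤ Z.radical := by
    refine Ideal.mul_le.2 fun x hx y hy => ?_
    obtain ⟨x', rfl⟩ := Ideal.mem_span_singleton'.1 hx
    rw [Ideal.radical_eq_sInf, Submodule.mem_sInf]
    rintro r ⟨hr, hrp⟩
    obtain ⟨g, hg, hgr⟩ := Ideal.exists_minimalPrimes_le hr
    by_cases hgq : g ≤ q.asIdeal
    · have hgp := hg.1.1
      have : (⟨g, hgp⟩ : PrimeSpectrum A) = q := hq _ (hsupp _ hg.1.2) hgq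
      refine Ideal.mul_mem_left _ _ (hgr ?_)
      rw [show g = q.asIdeal from congrArg PrimeSpectrum.asIdeal this]
      exact hy
    · have hgF : g ∈ F := Finset.mem_filter.2 ⟨(Set.Finite.mem_toFinset _).2 hg, hgq⟩
      obtain ⟨d, hd⟩ := Finset.dvd_prod_of_mem e (Finset.mem_attach F ⟨g, hgF⟩)
      refine Ideal.mul_mem_right _ _ (Ideal.mul_mem_left _ _ (hgr ?_))
      show p ∈ g
      rw [show p = e ⟨g, hgF⟩ * d from hd]
      exact Ideal.mul_mem_right _ _ (he ⟨g, hgF⟩)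
  obtain ⟨N, hN⟩ := Ideal.exists_pow_le_of_le_radical_of_fg hrad (IsNoetherian.noetherian _)
  refine ⟨p ^ N, fun h => hp (q.isPrime.mem_of_pow_mem N h), ?_⟩
  rw [gam_zeroLocus]
  refine ⟨N, fun x hx => ?_⟩
  rw [smul_smul, mul_comm]
  refine hZ _ (hN ?_)
  rw [mul_pow]
  exact Ideal.mul_mem_mul (Ideal.pow_mem_pow (Ideal.mem_span_singleton_self p) N) hx

variable {T T₀ : Set (PrimeSpectrum A)}

/-- One stratum: after multiplying by `a` a cycle with support in `T₀` is, up to a boundary,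
supported in the points of `T₀` outside the antichain `S`. -/
theorem exists_stage (hT₀ : StableUnderSpecialization T₀) (S : Set (PrimeSpectrum A))
    (hST : S ⊆ T₀) (hS : ∀ q ∈ S, ∀ r ∈ T₀, r ≤ q → r = q)
    (a : A) (n : ℕ) (M : ModuleCat.{u} A) (hloc : ∀ q ∈ S, LocKill q (n + 1) M a)
    (z : Zr M (n + 1)) (hz : z ∈ gam T₀ (Zr M (n + 1))) :
    ∃ w ∈ gam T₀ (Kr M n), a • z - (piR M n).hom w ∈ gam (T₀ \ S) (Zr M (n + 1)) := by
  classical
  let Z := LinearMap.ker (LinearMap.toSpanSingleton A (Zr M (n + 1)) z)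
  have hsupp : ∀ r : PrimeSpectrum A, Z ≤ r.asIdeal → r ∈ T₀ := fun r hr => by
    by_contra h
    obtain ⟨s, hs, hsz⟩ := mem_gam_iff.1 hz r h
    exact hs (hr hsz)
  have hfin : {q : PrimeSpectrum A | q ∈ S ∧ Z ≤ q.asIdeal}.Finite := by
    refine Set.Finite.subset ((Ideal.finite_minimalPrimes_of_isNoetherianRing A Z).preimage
      (f := PrimeSpectrum.asIdeal) fun p _ q _ h => PrimeSpectrum.ext h) ?_
    rintro q ⟨hqS, hq⟩
    refine ⟨⟨q.isPrime, hq⟩, fun r hr hrq => ?_⟩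
    exact le_of_eq (congrArg PrimeSpectrum.asIdeal
      (hS q hqS ⟨r, hr.1⟩ (hsupp ⟨r, hr.1⟩ hr.2) hrq)).symm
  have hpt : ∀ q ∈ S, ∃ w ∈ gam (PrimeSpectrum.zeroLocus (q.asIdeal : Set A)) (Kr M n),
      ∃ C ∉ q.asIdeal, C • (a • z - (piR M n).hom w) = 0 := by
    intro q hq
    obtain ⟨c, hc, hcz⟩ := exists_scale q (hS q hq) Z hsupp z (fun x hx => hx)
    obtain ⟨s, hs, w, hw, hwz⟩ := hloc q hq _ hcz
    obtain ⟨w', hw', e, he, hew⟩ := exists_div (baer_Kr n M) q hw (s * c)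
      (fun h => (q.isPrime.mem_or_mem h).elim hs hc)
    refine ⟨w', hw', e * (s * c),
      fun h => (q.isPrime.mem_or_mem h).elim he (fun h => (q.isPrime.mem_or_mem h).elim hs hc), ?_⟩
    rw [smul_sub, sub_eq_zero] at hew
    have h1 : (e * (s * c)) • (piR M n).hom w' = e • s • a • c • z := by
      rw [← map_smul, mul_smul, hew, map_smul, hwz]
    rw [smul_sub, h1, sub_eq_zero]
    simp only [smul_smul]
    congr 1
    ring
  choose w hw C hC hCz using hpt
  let F := hfin.toFinset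
  have hF : ∀ q ∈ F, q ∈ S := fun q hq => ((Set.Finite.mem_toFinset _).1 hq).1
  refine ⟨∑ q ∈ F.attach, w q.1 (hF q.1 q.2), sum_mem fun q _ =>
    gam_mono (zeroLocus_subset hT₀ (hST (hF q.1 q.2))) (hw q.1 _), ?_⟩
  rw [mem_gam_iff]
  intro r hr
  have hout : ∀ q : {q // q ∈ F}, q.1 ≠ r → (r ∈ S ∨ r ∉ T₀) →
      ∃ s ∉ r.asIdeal, s • (piR M n).hom (w q.1 (hF q.1 q.2)) = 0 := by
    intro q hne hr'
    refine mem_gam_iff.1 (map_mem_gam _ (hw q.1 _)) r fun h => ?_
    rcases hr' with hr' | hr'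
    · exact hne (hS r hr' q.1 (hST (hF q.1 q.2)) h)
    · exact hr' (zeroLocus_subset hT₀ (hST (hF q.1 q.2)) h)
  by_cases hrT : r ∈ T₀
  · have hrS : r ∈ S := by_contra fun h => hr ⟨hrT, h⟩
    by_cases hrF : r ∈ F
    · have hothers : ∀ q : {q // q ∈ F}, ∃ s ∉ r.asIdeal,
          q.1 ≠ r → s • (piR M n).hom (w q.1 (hF q.1 q.2)) = 0 := fun q => by
        by_cases h : q.1 = r
        · exact ⟨1, fun h1 => r.isPrime.ne_top ((Ideal.eq_top_iff_one _).2 h1), fun h' => absurd h h'⟩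
        · obtain ⟨s, hs, hs'⟩ := hout q h (Or.inl hrS)
          exact ⟨s, hs, fun _ => hs'⟩
      choose s hs hsw using hothers
      refine ⟨(∏ q ∈ F.attach, s q) * C r hrS, fun h => ?_, ?_⟩
      · rcases r.isPrime.mem_or_mem h with h | h
        · obtain ⟨q, -, hq⟩ := r.isPrime.prod_mem_iff.1 h
          exact hs q hq
        · exact hC r hrS h
      · rw [map_sum, ← Finset.add_sum_erase _ _ (Finset.mem_attach F ⟨r, hrF⟩), ← sub_sub, smul_sub,
          mul_smul, hCz r hrS, smul_zero, zero_sub, neg_eq_zero, Finset.smul_sum]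
        refine Finset.sum_eq_zero fun q hq => ?_
        obtain ⟨hne, -⟩ := Finset.mem_erase.1 hq
        obtain ⟨d, hd⟩ := Finset.dvd_prod_of_mem s (Finset.mem_attach F q)
        rw [hd, show s q * d * C r hrS = d * C r hrS * s q by ring, mul_smul,
          hsw q fun h => hne (Subtype.ext h), smul_zero]
    · obtain ⟨s, hs, hsr⟩ := Set.not_subset.1 fun h : (Z : Set A) ⊆ r.asIdeal =>
        hrF ((Set.Finite.mem_toFinset _).2 ⟨hrS, h⟩)
      have hothers : ∀ q : {q // q ∈ F}, ∃ t ∉ r.asIdeal,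
          t • (piR M n).hom (w q.1 (hF q.1 q.2)) = 0 := fun q =>
        hout q (fun h => hrF (h ▸ q.2)) (Or.inl hrS)
      choose t ht htw using hothers
      exact kill_sub (piR M n).hom a z _ r hsr hs F.attach (fun q => w q.1 (hF q.1 q.2)) t ht htw
  · obtain ⟨s, hs, hsz⟩ := mem_gam_iff.1 hz r hrT
    have hothers : ∀ q : {q // q ∈ F}, ∃ t ∉ r.asIdeal,
        t • (piR M n).hom (w q.1 (hF q.1 q.2)) = 0 := fun q =>
      hout q (fun h => hrT (h ▸ hST (hF q.1 q.2))) (Or.inr hrT)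
    choose t ht htw using hothers
    exact kill_sub (piR M n).hom a z s r hs hsz F.attach (fun q => w q.1 (hF q.1 q.2)) t ht htw

/-- The bottom degree of one stratum. -/
theorem exists_stage_zero (S : Set (PrimeSpectrum A))
    (hS : ∀ q ∈ S, ∀ r ∈ T₀, r ≤ q → r = q) (a : A) (M : ModuleCat.{u} A)
    (hloc : ∀ q ∈ S, LocKill q 0 M a) (z : Zr M 0) (hz : z ∈ gam T₀ (Zr M 0)) :
    a • z ∈ gam (T₀ \ S) (Zr M 0) := by
  classical
  rw [mem_gam_iff]
  intro r hr
  by_cases hrT : r ∈ T₀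
  · have hrS : r ∈ S := by_contra fun h => hr ⟨hrT, h⟩
    let Z := LinearMap.ker (LinearMap.toSpanSingleton A (Zr M 0) z)
    have hsupp : ∀ g : PrimeSpectrum A, Z ≤ g.asIdeal → g ∈ T₀ := fun g hg => by
      by_contra h
      obtain ⟨s, hs, hsz⟩ := mem_gam_iff.1 hz g h
      exact hs (hg hsz)
    obtain ⟨c, hc, hcz⟩ := exists_scale r (hS r hrS) Z hsupp z (fun x hx => hx)
    obtain ⟨s, hs, h⟩ := hloc r hrS _ hcz
    refine ⟨s * c, fun h => (r.isPrime.mem_or_mem h).elim hs hc, ?_⟩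
    rw [mul_smul, smul_comm c a]
    exact h
  · obtain ⟨s, hs, hsz⟩ := mem_gam_iff.1 hz r hrT
    exact ⟨s, hs, by rw [smul_comm, hsz, smul_zero]⟩

end LcFinLib
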