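import Groth.Agent.LcFinLib.MapKill

/-!
Maps inducing injective stable images on the local cohomology at the points of `T` do so, up to
iteration, on the cohomology with support in `T`.
-/

set_option autoImplicit false
set_option maxHeartbeats 400000
set_option linter.style.haveILetI false
universe u

open CategoryTheory CategoryTheory.Limits
open Groth.Agent
open scoped TensorProduct

attribute [local instance] HasDerivedCategory.standard

noncomputable section

namespace LcFinLib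

variable {A : Type u} [CommRing A]

/-- The map on the injectives under `zMap`. -/
def kMap : ∀ {M N : ModuleCat.{u} A}, (M ⟶ N) → ∀ n : ℕ, Kr M n ⟶ Kr N n
  | _, _, g, 0 => LocCohLib.DeltaFun.underE g
  | _, _, g, n + 1 => kMap (LocCohLib.DeltaFun.underMap g).τ₃ n

theorem kMap_iota : ∀ {M N : ModuleCat.{u} A} (g : M ⟶ N) (n : ℕ) (v : Zr M n),
    (kMap g n).hom ((iotaR M n).hom v) = (iotaR N n).hom ((zMap g n).hom v)
  | M, N, g, 0, v => congr($(LocCohLib.DeltaFun.ι_underE g) v)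
  | M, N, g, n + 1, v => kMap_iota (LocCohLib.DeltaFun.underMap g).τ₃ n v

theorem piR_kMap : ∀ {M N : ModuleCat.{u} A} (g : M ⟶ N) (n : ℕ) (w : Kr M n),
    (piR N n).hom ((kMap g n).hom w) = (zMap g (n + 1)).hom ((piR M n).hom w)
  | M, N, g, 0, w => congr($((LocCohLib.DeltaFun.underMap g).comm₂₃) w)
  | M, N, g, n + 1, w => piR_kMap (LocCohLib.DeltaFun.underMap g).τ₃ n w

variable [IsNoetherianRing A] {T₀ : Set (PrimeSpectrum A)}

omit [IsNoetherianRing A] in
theorem Bnd.smul' {T : Set (PrimeSpectrum A)} (c : A) {i : ℕ} {M : ModuleCat.{u} A} {z : Zr M i}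
    (h : Bnd T i M z) : Bnd T i M (c • z) := by
  match i, z, h with
  | 0, z, h => exact (congrArg (c • ·) h).trans (smul_zero c)
  | n + 1, z, ⟨w, hw, hwz⟩ => exact ⟨c • w, Submodule.smul_mem _ _ hw, by rw [map_smul, hwz]⟩

/-- One stratum for boundaries under a map. -/
theorem exists_stage_chain_map (hT₀ : StableUnderSpecialization T₀) (S : Set (PrimeSpectrum A))
    (hST : S ⊆ T₀) (hS : ∀ q ∈ S, ∀ r ∈ T₀, r ≤ q → r = q)
    (n : ℕ) {M N : ModuleCat.{u} A} (g : M ⟶ N) (hloc : ∀ q ∈ S, LocKillMap q n g)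
    (w : Kr M n) (hw : w ∈ gam T₀ (Kr M n))
    (hπ : (piR M n).hom w ∈ gam (T₀ \ S) (Zr M (n + 1))) :
    ∃ v ∈ gam (T₀ \ S) (Kr N n), (piR N n).hom v = (zMap g (n + 1)).hom ((piR M n).hom w) := by
  classical
  have key : ∀ q ∈ S, ∃ C ∉ q.asIdeal, ∃ v ∈ gam (PrimeSpectrum.zeroLocus (q.asIdeal : Set A))
      (Zr M n), (iotaR M n).hom v = C • w := by
    intro q hq
    obtain ⟨c, hc, hcw⟩ := exists_scale_mem hw q (hS q hq)
    obtain ⟨s, hs, hsw⟩ := mem_gam_iff.1 hπ q fun h => h.2 hq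
    obtain ⟨v, hv⟩ := (exact_R n M ((s * c) • w)).1 (by
      rw [map_smul, mul_comm, mul_smul, hsw, smul_zero])
    refine ⟨s * c, fun h => (q.isPrime.mem_or_mem h).elim hs hc, v, ?_, hv⟩
    refine mem_gam_of_injective _ (iotaR_injective n M) ?_
    rw [hv, mul_smul]
    exact Submodule.smul_mem _ _ hcw
  match n, g, hloc, w, hw, key with
  | 0, g, hloc, w, hw, key =>
    refine ⟨(kMap g 0).hom w, mem_gam_iff.2 fun r hr => ?_, piR_kMap g 0 w⟩
    by_cases hrT : r ∈ T₀
    · have hrS : r ∈ S := by_contra fun h => hr ⟨hrT, h⟩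
      obtain ⟨C, hC, v, hv, hvw⟩ := key r hrS
      obtain ⟨t, ht, htv⟩ := hloc r hrS v hv
      refine ⟨t * C, fun h => (r.isPrime.mem_or_mem h).elim ht hC, ?_⟩
      change t • (zMap g 0).hom v = 0 at htv
      rw [mul_smul, ← map_smul (kMap g 0).hom C w, ← hvw, kMap_iota, ← map_smul, htv, map_zero]
    · obtain ⟨s, hs, hsw⟩ := mem_gam_iff.1 hw r hrT
      exact ⟨s, hs, by rw [← map_smul, hsw, map_zero]⟩
  | m + 1, g, hloc, w, hw, key =>
    have hpt : ∀ q ∈ S, ∃ y ∈ gam (PrimeSpectrum.zeroLocus (q.asIdeal : Set A)) (Kr N m),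
        ∃ C ∉ q.asIdeal, C • ((1 : A) • (kMap g (m + 1)).hom w -
          ((iotaR N (m + 1)).hom ∘ₗ (piR N m).hom) y) = 0 := by
      intro q hq
      obtain ⟨C, hC, v, hv, hvw⟩ := key q hq
      obtain ⟨t, ht, y, hy, hyv⟩ := hloc q hq v hv
      obtain ⟨y', hy', e, he, hey⟩ := exists_div (baer_Kr m N) q hy (t * C)
        (fun h => (q.isPrime.mem_or_mem h).elim ht hC)
      refine ⟨y', hy', e * (t * C),
        fun h => (q.isPrime.mem_or_mem h).elim he (fun h => (q.isPrime.mem_or_mem h).elim ht hC), ?_⟩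
      rw [smul_sub, sub_eq_zero] at hey
      rw [one_smul, smul_sub, LinearMap.comp_apply,
        ← map_smul (iotaR N (m + 1)).hom, ← map_smul (piR N m).hom, mul_smul e (t * C) y',
        hey, map_smul, hyv, map_smul, map_smul, ← kMap_iota, hvw, map_smul, ← smul_smul, ← smul_smul,
        sub_self]
    obtain ⟨y, hy, hyw⟩ := exists_glue hT₀ S hST hS ((iotaR N (m + 1)).hom ∘ₗ (piR N m).hom)
      ((kMap g (m + 1)).hom w) (map_mem_gam _ hw) hpt
    refine ⟨_, hyw, ?_⟩
    rw [one_smul, map_sub, LinearMap.comp_apply, (exact_R (m + 1) N).apply_apply_eq_zero, sub_zero,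
      piR_kMap]

omit [IsNoetherianRing A] in
/-- The strata by height inside `T`. -/
theorem exists_strata (T : Set (PrimeSpectrum A)) (hT : StableUnderSpecialization T) (e : ℕ)
    (he : Order.krullDim T ≤ (e : WithBot ℕ∞)) :
    ∃ Tr : ℕ → Set (PrimeSpectrum A), (∀ r, StableUnderSpecialization (Tr r)) ∧ Tr 0 = T ∧
      (∀ r, Tr (r + 1) ⊆ Tr r) ∧ Tr (e + 1) ⊆ ∅ ∧
      ∀ r, ∀ q ∈ Tr r \ Tr (r + 1), ∀ g ∈ Tr r, g ≤ q → g = q := by
  let ht : ↥T → ℕ := fun q => (Order.height q).toNat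
  have hfin : ∀ q : ↥T, Order.height q ≤ (e : ℕ∞) := fun q =>
    WithBot.coe_le_coe.1 ((Order.height_le_krullDim q).trans he)
  have hte : ∀ q : ↥T, ht q ≤ e := fun q => ENat.toNat_le_of_le_natCast (hfin q)
  have hstrict : ∀ a b : ↥T, a < b → ht a < ht b := fun a b hab => by
    have hlt := Order.height_strictMono hab ((hfin a).trans_lt (ENat.natCast_lt_top e))
    obtain ⟨x, hx⟩ := ENat.ne_top_iff_exists.1 ((hfin a).trans_lt (ENat.natCast_lt_top e)).ne
    obtain ⟨y, hy⟩ := ENat.ne_top_iff_exists.1 ((hfin b).trans_lt (ENat.natCast_lt_top e)).ne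
    simp only [ht, ← hx, ← hy, ENat.toNat_natCast]
    rw [← hx, ← hy] at hlt
    exact_mod_cast hlt
  refine ⟨fun r => {q | ∃ hq : q ∈ T, r ≤ ht ⟨q, hq⟩}, ?_, ?_, ?_, ?_, ?_⟩
  · rintro r x y hxy ⟨hx, hr⟩
    refine ⟨hT hxy hx, hr.trans ?_⟩
    rcases eq_or_lt_of_le (show (⟨x, hx⟩ : ↥T) ≤ ⟨y, hT hxy hx⟩ from
      (PrimeSpectrum.le_iff_specializes x y).2 hxy) with h' | h'
    · rw [h']
    · exact (hstrict _ _ h').le
  · exact Set.ext fun q => ⟨fun h => h.1, fun h => ⟨h, Nat.zero_le _⟩⟩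
  · exact fun r q ⟨hq, h⟩ => ⟨hq, (Nat.le_succ r).trans h⟩
  · rintro q ⟨hq, h⟩
    have := hte ⟨q, hq⟩
    exfalso
    omega
  · rintro r q ⟨⟨hq, hqr⟩, hqS⟩ g ⟨hg, hgr⟩ hgq
    rcases eq_or_lt_of_le hgq with h' | h'
    · exact h'
    · exact absurd ⟨hq, Nat.succ_le_of_lt (hgr.trans_lt (hstrict ⟨g, hg⟩ ⟨q, hq⟩ h'))⟩ hqS

/-- A boundary with support in `T₀` is a boundary at a minimal point of `T₀`, after scaling. -/
theorem exists_smul_bnd {q : PrimeSpectrum A} (hq : ∀ r ∈ T₀, r ≤ q → r = q) :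
    ∀ (i : ℕ) (M : ModuleCat.{u} A) (z : Zr M i), Bnd T₀ i M z →
      ∃ s ∉ q.asIdeal, Bnd (PrimeSpectrum.zeroLocus (q.asIdeal : Set A)) i M (s • z)
  | 0, _, z, hz => ⟨1, fun h => q.isPrime.ne_top ((Ideal.eq_top_iff_one _).2 h),
      by rw [one_smul]; exact hz⟩
  | n + 1, M, z, ⟨w, hw, hwz⟩ => by
    obtain ⟨c, hc, hcw⟩ := exists_scale_mem hw q hq
    exact ⟨c, hc, c • w, hcw, by rw [map_smul, hwz]⟩

/-- `M_n` is a system with vanishing maps in degree `i - 1` and injective stable images in degree `i`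
at every point of `T`. -/
theorem exists_stable_injective (T : Set (PrimeSpectrum A)) (hT : StableUnderSpecialization T)
    (e : ℕ) (he : Order.krullDim T ≤ (e : WithBot ℕ∞)) (M : ℕ → ModuleCat.{u} A)
    (φ : ∀ k m : ℕ, m ≤ k → (M k ⟶ M m))
    (hφ : ∀ (k l m : ℕ) (h₁ : m ≤ l) (h₂ : l ≤ k), φ k m (h₁.trans h₂) = φ k l h₂ ≫ φ l m h₁)
    (i : ℕ) (m' : ℕ → ℕ) (hm' : ∀ m, m ≤ m' m)
    (hprev : 0 < i → ∀ q ∈ T, ∀ (m k : ℕ) (h : m ≤ k), m' m ≤ k →
      LocKillMap q (i - 1) (φ k m h))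
    (hker : ∀ q ∈ T, ∀ (m k : ℕ) (h : m ≤ k), m' m ≤ k →
      ∀ x : ((lcGD q.asIdeal).D.F i).obj (M k),
        (∃ s ∉ q.asIdeal, s • (((lcGD q.asIdeal).D.F i).map (φ k 0 (Nat.zero_le k))).hom x = 0) →
        ∃ s ∉ q.asIdeal, s • (((lcGD q.asIdeal).D.F i).map (φ k m h)).hom x = 0) :
    ∃ m₀ : ℕ, ∀ m : ℕ, ∀ (hm : m₀ ≤ m), ∃ m'' : ℕ, ∃ hmm : m ≤ m'', ∀ (k : ℕ) (hk : m'' ≤ k),
      ∀ x : ((htGD T).D.F i).obj (M k),
        (((htGD T).D.F i).map (φ k m₀ (hm.trans (hmm.trans hk)))).hom x = 0 →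
        (((htGD T).D.F i).map (φ k m (hmm.trans hk))).hom x = 0 := by
  classical
  obtain ⟨Tr, hTr, hTr0, hsucc, htop, hmin⟩ := exists_strata T hT e he
  have hTrT : ∀ r, Tr r ⊆ T := fun r => by
    induction r with
    | zero => exact hTr0.le
    | succ r ih => exact (hsucc r).trans ih
  have hdiff : ∀ r, Tr r \ (Tr r \ Tr (r + 1)) ⊆ Tr (r + 1) := fun r q hq =>
    by_contra fun h => hq.2 ⟨hq.1, h⟩
  -- boundaries with support in `T` become boundaries with support in `Tr r`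
  have hB : ∀ (r m k : ℕ) (h : m ≤ k), (m'^[r]) m ≤ k → ∀ z ∈ gam (Tr r) (Zr (M k) i),
      Bnd T i (M k) z → Bnd (Tr r) i (M m) ((zMap (φ k m h) i).hom z) := by
    intro r
    match i, hprev with
    | 0, _ =>
      intro m k h _ z _ hz
      change (zMap (φ k m h) 0).hom z = 0
      rw [show z = 0 from hz, map_zero]
    | n + 1, hprev =>
    induction r with
    | zero =>
      intro m k h _ z _ ⟨w, hw, hwz⟩
      refine ⟨(kMap (φ k m h) n).hom w, map_mem_gam _ (gam_mono hTr0.ge hw), ?_⟩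
      rw [piR_kMap, hwz]
    | succ r ih =>
      intro m k h hk z hz hzb
      rw [Function.iterate_succ_apply] at hk
      have hlk : m' m ≤ k := (Function.id_le_iterate_of_id_le hm' r (m' m)).trans hk
      obtain ⟨w, hw, hwz⟩ := ih (m' m) k hlk hk z (gam_mono (hsucc r) hz) hzb
      have hπ : (piR (M (m' m)) n).hom w ∈
          gam (Tr r \ (Tr r \ Tr (r + 1))) (Zr (M (m' m)) (n + 1)) := by
        rw [hwz]
        exact gam_mono (show Tr (r + 1) ⊆ Tr r \ (Tr r \ Tr (r + 1)) from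
          fun q hq => ⟨hsucc r hq, fun h' => h'.2 hq⟩) (map_mem_gam _ hz)
      obtain ⟨v, hv, hvw⟩ := exists_stage_chain_map (hTr r) _ Set.sdiff_subset (hmin r) n
        (φ (m' m) m (hm' m)) (fun q hq => hprev n.succ_pos q (hTrT r hq.1) m (m' m) (hm' m) le_rfl)
        w hw hπ
      let G := htGD (Tr (r + 1))
      refine (cyc_eq_zero_iff G (n + 1) (M m) ⟨_, map_mem_gam (zMap (φ k m h) (n + 1)).hom hz⟩).1 ?_
      rw [← map_cyc_zMap G (n + 1) (φ k m h) ⟨z, hz⟩, hφ k (m' m) m (hm' m) hlk, Functor.map_comp,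
        ModuleCat.comp_apply, map_cyc_zMap, map_cyc_zMap, cyc_eq_zero_iff]
      exact ⟨v, gam_mono (hdiff r) hv, by rw [hvw, hwz]⟩
  let G := htGD T
  suffices H : ∀ (a r : ℕ), e + 1 ≤ r + a → ∃ m₀ : ℕ, ∀ m : ℕ, ∀ (hm : m₀ ≤ m), ∃ m'' : ℕ,
      ∃ hmm : m ≤ m'', ∀ (k : ℕ) (hk : m'' ≤ k), ∀ z : gam T (Zr (M k) i),
        z.1 ∈ gam (Tr r) (Zr (M k) i) →
        ((G.D.F i).map (φ k m₀ (hm.trans (hmm.trans hk)))).hom (cyc G i (M k) z) = 0 →
        ((G.D.F i).map (φ k m (hmm.trans hk))).hom (cyc G i (M k) z) = 0 by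
    obtain ⟨m₀, h⟩ := H (e + 1) 0 (by omega)
    refine ⟨m₀, fun m hm => ?_⟩
    obtain ⟨m'', hmm, h⟩ := h m hm
    refine ⟨m'', hmm, fun k hk x => ?_⟩
    obtain ⟨z, rfl⟩ := cyc_surjective G i (M k) x
    exact h k hk z (gam_mono hTr0.ge z.2)
  intro a
  induction a with
  | zero =>
    intro r hr
    refine ⟨0, fun m hm => ⟨m, le_rfl, fun k hk z hz _ => ?_⟩⟩
    have hsub : Tr r ⊆ ∅ := by
      obtain ⟨d, rfl⟩ := Nat.exists_eq_add_of_le (show e + 1 ≤ r by omega)
      clear hr hz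
      induction d with
      | zero => exact htop
      | succ d ih => exact (hsucc _).trans ih
    rw [show z = 0 from Subtype.ext (eq_zero_of_mem_gam_of_eq_empty hsub hz), map_zero, map_zero]
  | succ a ih =>
    intro r hr
    obtain ⟨m₁, h₁⟩ := ih (r + 1) (by omega)
    refine ⟨max m₁ ((m'^[r]) 0), fun m hm => ?_⟩
    obtain ⟨l, hml, hl⟩ := h₁ m (le_trans (le_max_left _ _) hm)
    refine ⟨m' l, hml.trans (hm' l), fun k hk z hz hzero => ?_⟩
    have hlk : l ≤ k := (hm' l).trans hk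
    have hm₁ : m₁ ≤ l := ((le_max_left _ _).trans hm).trans hml
    set μ := max m₁ ((m'^[r]) 0) with hμ
    have hμk : μ ≤ k := hm.trans (hml.trans hlk)
    rw [map_cyc_zMap, cyc_eq_zero_iff] at hzero
    have hb := hB r 0 μ (Nat.zero_le μ) (le_max_right _ _) _ (map_mem_gam _ hz) hzero
    obtain ⟨z', hz', hcl⟩ := exists_stage_class G (hTr r) (hTrT r) _ Set.sdiff_subset (hmin r) i
      (φ k l hlk) z (fun q hq c hc hcz => by
        let L := lcGD q.asIdeal
        obtain ⟨s, hs, hsb⟩ := exists_smul_bnd (hmin r q hq) i (M 0) _ hb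
        obtain ⟨t, ht, htx⟩ := hker q (hTrT r hq.1) l k hlk hk (cyc L i (M k) ⟨c • z.1, hcz⟩)
          ⟨s, hs, by
            have hsz : s • (zMap (φ μ 0 (Nat.zero_le μ)) i).hom ((zMap (φ k μ hμk) i).hom (c • z.1)) =
                c • s • (zMap (φ μ 0 (Nat.zero_le μ)) i).hom ((zMap (φ k μ hμk) i).hom z.1) := by
              rw [map_smul, map_smul, smul_comm]
            rw [hφ k μ 0 (Nat.zero_le μ) hμk, Functor.map_comp, ModuleCat.comp_apply, map_cyc_zMap,
              map_cyc_zMap, ← map_smul, cyc_eq_zero_iff]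
            show Bnd _ i (M 0) (s • (zMap (φ μ 0 (Nat.zero_le μ)) i).hom
              ((zMap (φ k μ hμk) i).hom (c • z.1)))
            rw [hsz]
            exact Bnd.smul' c hsb⟩
        rw [map_cyc_zMap, ← map_smul, cyc_eq_zero_iff] at htx
        exact ⟨t, ht, htx⟩) hz
    rw [hφ k l m hml hlk, Functor.map_comp, ModuleCat.comp_apply, hcl]
    refine hl l le_rfl z' (gam_mono (hdiff r) hz') ?_
    rw [← hcl, ← ModuleCat.comp_apply, ← Functor.map_comp, ← hφ k l m₁ hm₁ hlk,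
      hφ k μ m₁ (le_max_left _ _) hμk, Functor.map_comp, ModuleCat.comp_apply]
    rw [show ((G.D.F i).map (φ k μ hμk)).hom (cyc G i (M k) z) = 0 from by
      rw [map_cyc_zMap, cyc_eq_zero_iff]; exact hzero, map_zero]

theorem exists_conj {C D E : Type*} [Category C] [Category D] [Category E] {P : C ⥤ E}
    {T : C ⥤ D} {F F' : D ⥤ E} (α : P ≅ T ⋙ F) (τ : F ≅ F') (L : C → D)
    (e : ∀ M, T.obj M ≅ L M) (l : ∀ {M N : C}, (M ⟶ N) → (L M ⟶ L N))
    (hsq : ∀ {M N : C} (g : M ⟶ N), T.map g ≫ (e N).hom = (e M).hom ≫ l g) :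
    ∃ c : ∀ M, P.obj M ≅ F'.obj (L M), ∀ {M N : C} (g : M ⟶ N),
      P.map g ≫ (c N).hom = (c M).hom ≫ F'.map (l g) :=
  ⟨fun M => α.app M ≪≫ τ.app _ ≪≫ F'.mapIso (e M), fun {M N} g => by
    simp only [Iso.trans_hom, Iso.app_hom, Functor.mapIso_hom, Category.assoc, ← Functor.map_comp,
      ← hsq]
    simp only [Functor.map_comp, α.hom.naturality_assoc, Functor.comp_map, τ.hom.naturality_assoc]⟩

theorem equivTensorProduct_naturality (q : PrimeSpectrum A) {M N : ModuleCat.{u} A} (g : M ⟶ N) :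
    (LocCohLib.tensF A (Localization.AtPrime q.asIdeal)).map g ≫
        (((LocalizedModule.equivTensorProduct q.asIdeal.primeCompl N).symm).toModuleIso :
          (LocCohLib.tensF A (Localization.AtPrime q.asIdeal)).obj N ≅ _).hom =
      (((LocalizedModule.equivTensorProduct q.asIdeal.primeCompl M).symm).toModuleIso :
          (LocCohLib.tensF A (Localization.AtPrime q.asIdeal)).obj M ≅ _).hom ≫
        ModuleCat.ofHom (LocalizedModule.map q.asIdeal.primeCompl g.hom) := by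
  apply ModuleCat.hom_ext
  refine (TensorProduct.isBaseChange A M (Localization.AtPrime q.asIdeal)).algHom_ext _ _ fun m => ?_
  show (LocalizedModule.equivTensorProduct q.asIdeal.primeCompl N).symm
      ((1 : Localization.AtPrime q.asIdeal) ⊗ₜ g.hom m) =
    LocalizedModule.map q.asIdeal.primeCompl g.hom
      ((LocalizedModule.equivTensorProduct q.asIdeal.primeCompl M).symm
        ((1 : Localization.AtPrime q.asIdeal) ⊗ₜ m))
  rw [LocalizedModule.equivTensorProduct_symm_apply_tmul_one,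
    LocalizedModule.equivTensorProduct_symm_apply_tmul_one, LocalizedModule.map_mk]

/-- Local cohomology at a point commutes with localization, naturally. -/
theorem exists_locH (q : PrimeSpectrum A) (i : ℕ) :
    ∃ c : ∀ M : ModuleCat.{u} A, (localCohomology.{u} q.asIdeal i ⋙
        LocCohLib.tensF A (Localization.AtPrime q.asIdeal)).obj M ≅
      (localCohomology.{u} (IsLocalRing.maximalIdeal (Localization.AtPrime q.asIdeal)) i).obj
        (ModuleCat.of (Localization.AtPrime q.asIdeal) (LocalizedModule q.asIdeal.primeCompl M)),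
      ∀ {M N : ModuleCat.{u} A} (g : M ⟶ N),
        (localCohomology.{u} q.asIdeal i ⋙
            LocCohLib.tensF A (Localization.AtPrime q.asIdeal)).map g ≫ (c N).hom =
          (c M).hom ≫
            (localCohomology.{u} (IsLocalRing.maximalIdeal (Localization.AtPrime q.asIdeal)) i).map
              (ModuleCat.ofHom (LocalizedModule.map q.asIdeal.primeCompl g.hom)) :=
  exists_conj (LocCohLib.tensLcIso (R' := Localization.AtPrime q.asIdeal) q.asIdeal i)
    (eqToIso (congrArg (fun J => localCohomology.{u} J i)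
      (Localization.AtPrime.map_eq_maximalIdeal (I := q.asIdeal))))
    (fun M => ModuleCat.of _ (LocalizedModule q.asIdeal.primeCompl M))
    (fun M => ((LocalizedModule.equivTensorProduct q.asIdeal.primeCompl M).symm).toModuleIso)
    (fun {M N} g => ModuleCat.ofHom (LocalizedModule.map q.asIdeal.primeCompl g.hom))
    (equivTensorProduct_naturality q)

/-- A chosen comparison of local cohomology at a point with that of the localization. -/
def locHIso (q : PrimeSpectrum A) (i : ℕ) (M : ModuleCat.{u} A) :=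
  (exists_locH q i).choose M

theorem smul_eq_zero_iff_locH (q : PrimeSpectrum A) (i : ℕ) {M N : ModuleCat.{u} A} (g : M ⟶ N)
    (x : (localCohomology.{u} q.asIdeal i).obj M) :
    (∃ s ∉ q.asIdeal, s • ((localCohomology.{u} q.asIdeal i).map g).hom x = 0) ↔
      ((localCohomology.{u} (IsLocalRing.maximalIdeal (Localization.AtPrime q.asIdeal)) i).map
          (ModuleCat.ofHom (LocalizedModule.map q.asIdeal.primeCompl g.hom))).hom
        ((locHIso q i M).hom.hom ((1 : Localization.AtPrime q.asIdeal) ⊗ₜ x)) = 0 := by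
  have h : ((localCohomology.{u} (IsLocalRing.maximalIdeal (Localization.AtPrime q.asIdeal)) i).map
      (ModuleCat.ofHom (LocalizedModule.map q.asIdeal.primeCompl g.hom))).hom
        ((locHIso q i M).hom.hom ((1 : Localization.AtPrime q.asIdeal) ⊗ₜ x)) =
      (locHIso q i N).toLinearEquiv ((1 : Localization.AtPrime q.asIdeal) ⊗ₜ
        ((localCohomology.{u} q.asIdeal i).map g).hom x) :=
    (congr($((exists_locH q i).choose_spec g) ((1 : Localization.AtPrime q.asIdeal) ⊗ₜ x))).symm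
  rw [h]
  refine Iff.trans ?_ (LinearEquiv.map_eq_zero_iff (locHIso q i N).toLinearEquiv).symm
  refine Iff.trans ?_ (IsLocalizedModule.eq_zero_iff q.asIdeal.primeCompl
    (TensorProduct.mk A (Localization.AtPrime q.asIdeal)
      ((localCohomology.{u} q.asIdeal i).obj N) 1)).symm
  exact ⟨fun ⟨s, hs, h⟩ => ⟨⟨s, hs⟩, h⟩, fun ⟨⟨s, hs⟩, h⟩ => ⟨s, hs, h⟩⟩

end LcFinLib
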