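import Groth.Agent.LcFinLib.Compare

/-!
Maps inducing zero on the local cohomology at the points of `T` induce zero, up to iteration, on the
cohomology with support in `T`.
-/

set_option autoImplicit false
set_option maxHeartbeats 400000
set_option linter.style.haveILetI false
universe u

open CategoryTheory CategoryTheory.Limits
open Groth.Agent
open scoped TensorProduct

attribute [local instance] HasDerivedCategory.standard

noncomputable section

namespace LcFinLib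

variable {A : Type u} [CommRing A]

/-- A map on the cosyzygies over a map of modules. -/
def zMap : ∀ {M N : ModuleCat.{u} A}, (M ⟶ N) → ∀ n : ℕ, Zr M n ⟶ Zr N n
  | _, _, g, 0 => g
  | _, _, g, n + 1 => zMap (LocCohLib.DeltaFun.underMap g).τ₃ n

theorem map_cyc_zMap {T : Set (PrimeSpectrum A)} (G : GammaDelta T) :
    ∀ (i : ℕ) {M N : ModuleCat.{u} A} (g : M ⟶ N) (z : gam T (Zr M i)),
      ((G.D.F i).map g).hom (cyc G i M z) =
        cyc G i N ⟨(zMap g i).hom z.1, map_mem_gam (zMap g i).hom z.2⟩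
  | 0, M, N, g, z => (congr($(G.e.inv.naturality g) z)).symm
  | n + 1, M, N, g, z => by
    have h := G.D.δ_natural (LocCohLib.DeltaFun.under_shortExact M)
      (LocCohLib.DeltaFun.under_shortExact N) (LocCohLib.DeltaFun.underMap g) n
    refine (congr($h (cyc G n (cokernel (Injective.ι M)) z))).trans ?_
    exact congrArg (G.D.δ (LocCohLib.DeltaFun.under_shortExact N) n).hom
      (map_cyc_zMap G n (LocCohLib.DeltaFun.underMap g).τ₃ z)

/-- `g` induces zero on the local cohomology at `q`, locally at `q`. -/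
def LocKillMap (q : PrimeSpectrum A) (i : ℕ) {M N : ModuleCat.{u} A} (g : M ⟶ N) : Prop :=
  ∀ z ∈ gam (PrimeSpectrum.zeroLocus (q.asIdeal : Set A)) (Zr M i),
    ∃ s ∉ q.asIdeal, Bnd (PrimeSpectrum.zeroLocus (q.asIdeal : Set A)) i N (s • (zMap g i).hom z)

/-- `g` kills `z` locally at `q`, whenever `z` becomes supported at `q`. -/
def LocKillAt (q : PrimeSpectrum A) (i : ℕ) {M N : ModuleCat.{u} A} (g : M ⟶ N) (z : Zr M i) : Prop :=
  ∀ c ∉ q.asIdeal, c • z ∈ gam (PrimeSpectrum.zeroLocus (q.asIdeal : Set A)) (Zr M i) →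
    ∃ s ∉ q.asIdeal, Bnd (PrimeSpectrum.zeroLocus (q.asIdeal : Set A)) i N
      (s • (zMap g i).hom (c • z))

variable [IsNoetherianRing A] {T₀ : Set (PrimeSpectrum A)}

/-- An element of `gam T₀` scaled at a minimal point `q` of `T₀`. -/
theorem exists_scale_mem {V : Type u} [AddCommGroup V] [Module A V] {z : V} (hz : z ∈ gam T₀ V)
    (q : PrimeSpectrum A) (hq : ∀ r ∈ T₀, r ≤ q → r = q) :
    ∃ c ∉ q.asIdeal, c • z ∈ gam (PrimeSpectrum.zeroLocus (q.asIdeal : Set A)) V := by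
  refine exists_scale q hq (LinearMap.ker (LinearMap.toSpanSingleton A V z)) (fun r hr => ?_) z
    fun x hx => hx
  by_contra h
  obtain ⟨s, hs, hsz⟩ := mem_gam_iff.1 hz r h
  exact hs (hr hsz)

/-- One stratum for a map: the image of a cycle with support in `T₀` is, up to a boundary,
supported in the points of `T₀` outside the antichain `S`. -/
theorem exists_stage_map (hT₀ : StableUnderSpecialization T₀) (S : Set (PrimeSpectrum A))
    (hST : S ⊆ T₀) (hS : ∀ q ∈ S, ∀ r ∈ T₀, r ≤ q → r = q)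
    (n : ℕ) {M N : ModuleCat.{u} A} (g : M ⟶ N) (z : Zr M (n + 1))
    (hloc : ∀ q ∈ S, LocKillAt q (n + 1) g z) (hz : z ∈ gam T₀ (Zr M (n + 1))) :
    ∃ w ∈ gam T₀ (Kr N n),
      (zMap g (n + 1)).hom z - (piR N n).hom w ∈ gam (T₀ \ S) (Zr N (n + 1)) := by
  have h := exists_glue hT₀ S hST hS (piR N n).hom ((zMap g (n + 1)).hom z) (map_mem_gam _ hz)
    fun q hq => by
      obtain ⟨c, hc, hcz⟩ := exists_scale_mem hz q (hS q hq)
      obtain ⟨s, hs, w, hw, hwz⟩ := hloc q hq c hc hcz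
      obtain ⟨w', hw', e, he, hew⟩ := exists_div (baer_Kr n N) q hw (s * c)
        (fun h => (q.isPrime.mem_or_mem h).elim hs hc)
      refine ⟨w', hw', e * (s * c),
        fun h => (q.isPrime.mem_or_mem h).elim he (fun h => (q.isPrime.mem_or_mem h).elim hs hc), ?_⟩
      rw [smul_sub, sub_eq_zero] at hew
      rw [one_smul, smul_sub, sub_eq_zero, ← map_smul (piR N n).hom, mul_smul e (s * c) w', hew,
        map_smul, hwz, map_smul, smul_smul, smul_smul, mul_assoc]
  simpa only [one_smul] using h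

/-- The bottom degree of one stratum. -/
theorem exists_stage_map_zero (S : Set (PrimeSpectrum A))
    (hS : ∀ q ∈ S, ∀ r ∈ T₀, r ≤ q → r = q) {M N : ModuleCat.{u} A} (g : M ⟶ N) (z : Zr M 0)
    (hloc : ∀ q ∈ S, LocKillAt q 0 g z) (hz : z ∈ gam T₀ (Zr M 0)) :
    (zMap g 0).hom z ∈ gam (T₀ \ S) (Zr N 0) := by
  rw [mem_gam_iff]
  intro r hr
  by_cases hrT : r ∈ T₀
  · have hrS : r ∈ S := by_contra fun h => hr ⟨hrT, h⟩
    obtain ⟨c, hc, hcz⟩ := exists_scale_mem hz r (hS r hrS)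
    obtain ⟨s, hs, h⟩ := hloc r hrS c hc hcz
    refine ⟨s * c, fun h => (r.isPrime.mem_or_mem h).elim hs hc, ?_⟩
    rw [mul_smul, ← map_smul (zMap g 0).hom c z]
    exact h
  · obtain ⟨s, hs, hsz⟩ := mem_gam_iff.1 hz r hrT
    exact ⟨s, hs, by rw [← map_smul, hsz, map_zero]⟩

variable {T : Set (PrimeSpectrum A)}

theorem exists_stage_class (G : GammaDelta T) (hT₀ : StableUnderSpecialization T₀) (hle : T₀ ⊆ T)
    (S : Set (PrimeSpectrum A)) (hST : S ⊆ T₀) (hS : ∀ q ∈ S, ∀ r ∈ T₀, r ≤ q → r = q)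
    (i : ℕ) {M N : ModuleCat.{u} A} (g : M ⟶ N)
    (z : gam T (Zr M i)) (hloc : ∀ q ∈ S, LocKillAt q i g z.1) (hz : z.1 ∈ gam T₀ (Zr M i)) :
    ∃ z' : gam T (Zr N i), z'.1 ∈ gam (T₀ \ S) (Zr N i) ∧
      ((G.D.F i).map g).hom (cyc G i M z) = cyc G i N z' := by
  match i with
  | 0 =>
    exact ⟨⟨(zMap g 0).hom z.1, map_mem_gam _ z.2⟩, exists_stage_map_zero S hS g z.1 hloc hz,
      map_cyc_zMap G 0 g z⟩
  | n + 1 =>
    obtain ⟨w, hw, hzw⟩ := exists_stage_map hT₀ S hST hS n g z.1 hloc hz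
    refine ⟨⟨_, gam_mono (Set.diff_subset.trans hle) hzw⟩, hzw, ?_⟩
    rw [map_cyc_zMap, ← sub_eq_zero, ← map_sub, cyc_eq_zero_iff]
    exact ⟨w, gam_mono hle hw, (sub_sub_cancel _ _).symm⟩

/-- Iterating over the strata of `T`. -/
theorem map_eq_zero_of_locKillMap (G : GammaDelta T) (hT : StableUnderSpecialization T) (e : ℕ)
    (he : Order.krullDim T ≤ (e : WithBot ℕ∞)) (M : ℕ → ModuleCat.{u} A)
    (φ : ∀ k m : ℕ, m ≤ k → (M k ⟶ M m))
    (hφ : ∀ (k l m : ℕ) (h₁ : m ≤ l) (h₂ : l ≤ k), φ k m (h₁.trans h₂) = φ k l h₂ ≫ φ l m h₁)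
    (i : ℕ) (m' : ℕ → ℕ) (hm' : ∀ m, m ≤ m' m)
    (hloc : ∀ q ∈ T, ∀ (m k : ℕ) (h : m ≤ k), m' m ≤ k → LocKillMap q i (φ k m h))
    (m k : ℕ) (h : m ≤ k) (hk : (m'^[e + 1]) m ≤ k) : (G.D.F i).map (φ k m h) = 0 := by
  classical
  have hmid : ∀ a, m ≤ (m'^[a]) m := fun a => Function.id_le_iterate_of_id_le hm' a m
  let ht : ↥T → ℕ := fun q => (Order.height q).toNat
  have hfin : ∀ q : ↥T, Order.height q ≤ (e : ℕ∞) := fun q =>
    WithBot.coe_le_coe.1 ((Order.height_le_krullDim q).trans he)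
  have hte : ∀ q : ↥T, ht q ≤ e := fun q => ENat.toNat_le_of_le_natCast (hfin q)
  have hstrict : ∀ a b : ↥T, a < b → ht a < ht b := fun a b hab => by
    have hlt := Order.height_strictMono hab ((hfin a).trans_lt (ENat.natCast_lt_top e))
    obtain ⟨x, hx⟩ := ENat.ne_top_iff_exists.1 ((hfin a).trans_lt (ENat.natCast_lt_top e)).ne
    obtain ⟨y, hy⟩ := ENat.ne_top_iff_exists.1 ((hfin b).trans_lt (ENat.natCast_lt_top e)).ne
    simp only [ht, ← hx, ← hy, ENat.toNat_natCast]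
    rw [← hx, ← hy] at hlt
    exact_mod_cast hlt
  let Tr : ℕ → Set (PrimeSpectrum A) := fun r => {q | ∃ hq : q ∈ T, r ≤ ht ⟨q, hq⟩}
  have hTr : ∀ r, StableUnderSpecialization (Tr r) := by
    rintro r x y hxy ⟨hx, hr⟩
    refine ⟨hT hxy hx, hr.trans ?_⟩
    rcases eq_or_lt_of_le (show (⟨x, hx⟩ : ↥T) ≤ ⟨y, hT hxy hx⟩ from
      (PrimeSpectrum.le_iff_specializes x y).2 hxy) with h' | h'
    · rw [h']
    · exact (hstrict _ _ h').le
  suffices H : ∀ (a r : ℕ), e + 1 ≤ r + a → ∀ (k : ℕ) (h : m ≤ k), (m'^[a]) m ≤ k →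
      ∀ z : gam T (Zr (M k) i), z.1 ∈ gam (Tr r) (Zr (M k) i) →
        ((G.D.F i).map (φ k m h)).hom (cyc G i (M k) z) = 0 by
    ext x
    obtain ⟨z, rfl⟩ := cyc_surjective G i (M k) x
    exact H (e + 1) 0 (by omega) k h hk z
      (gam_mono (fun q hq => show ∃ hq : q ∈ T, 0 ≤ ht ⟨q, hq⟩ from ⟨hq, Nat.zero_le _⟩) z.2)
  intro a
  induction a with
  | zero =>
    intro r hr k h _ z hz
    have hz0 : z = 0 := Subtype.ext (eq_zero_of_mem_gam_of_eq_empty (T := Tr r) (by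
      rintro q ⟨hq, hq'⟩
      have := hte ⟨q, hq⟩
      exfalso
      omega) hz)
    rw [hz0, map_zero, map_zero]
  | succ a ih =>
    intro r hr k h hk z hz
    rw [Function.iterate_succ_apply'] at hk
    have hlk : (m'^[a]) m ≤ k := (hm' _).trans hk
    let S : Set (PrimeSpectrum A) := {q | ∃ hq : q ∈ T, ht ⟨q, hq⟩ = r}
    have hS : ∀ q ∈ S, ∀ g ∈ Tr r, g ≤ q → g = q := by
      rintro q ⟨hq, hqr⟩ g ⟨hg, hgr⟩ hgq
      rcases eq_or_lt_of_le hgq with h' | h'
      · exact h'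
      · have := hstrict ⟨g, hg⟩ ⟨q, hq⟩ h'
        omega
    obtain ⟨z', hz', hcl⟩ := exists_stage_class G (hTr r) (fun q hq => hq.1) S
      (fun q ⟨hq, hqr⟩ => ⟨hq, hqr.ge⟩) hS i (φ k ((m'^[a]) m) hlk) z
      (fun q hq c _ hcz => hloc q hq.1 _ k hlk hk _ hcz) hz
    rw [hφ k ((m'^[a]) m) m (hmid a) hlk, Functor.map_comp, ModuleCat.comp_apply, hcl]
    refine ih (r + 1) (by omega) _ (hmid a) le_rfl z' (gam_mono ?_ hz')
    rintro q ⟨⟨hq, hqr⟩, hqS⟩
    exact ⟨hq, lt_of_le_of_ne hqr fun h' => hqS ⟨hq, h'.symm⟩⟩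

/-- Vanishing on the localized modules gives vanishing locally at `q`. -/
theorem locKillMap_of_map_eq_zero (q : PrimeSpectrum A) (i : ℕ) {M N : ModuleCat.{u} A} (g : M ⟶ N)
    (h0 : (localCohomology.{u} (IsLocalRing.maximalIdeal (Localization.AtPrime q.asIdeal)) i).map
      (ModuleCat.ofHom (LocalizedModule.map q.asIdeal.primeCompl g.hom)) = 0) :
    LocKillMap q i g := by
  let R' := Localization.AtPrime q.asIdeal
  intro z hz
  let G := lcGD q.asIdeal
  let x : (G.D.F i).obj M := cyc G i M ⟨z, hz⟩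
  have hJ : ∀ J : Ideal R', J = IsLocalRing.maximalIdeal R' → (localCohomology.{u} J i).map
      (ModuleCat.ofHom (LocalizedModule.map q.asIdeal.primeCompl g.hom)) = 0 := by
    rintro _ rfl
    exact h0
  let eM : (LocCohLib.tensF A R').obj M ≅ ModuleCat.of R' (LocalizedModule q.asIdeal.primeCompl M) :=
    ((LocalizedModule.equivTensorProduct q.asIdeal.primeCompl M).symm).toModuleIso
  let eN : (LocCohLib.tensF A R').obj N ≅ ModuleCat.of R' (LocalizedModule q.asIdeal.primeCompl N) :=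
    ((LocalizedModule.equivTensorProduct q.asIdeal.primeCompl N).symm).toModuleIso
  have hsq : (LocCohLib.tensF A R').map g = eM.hom ≫
      ModuleCat.ofHom (LocalizedModule.map q.asIdeal.primeCompl g.hom) ≫ eN.inv := by
    rw [← Category.assoc, Iso.eq_comp_inv]
    apply ModuleCat.hom_ext
    refine (TensorProduct.isBaseChange A M R').algHom_ext _ _ fun m => ?_
    show (LocalizedModule.equivTensorProduct q.asIdeal.primeCompl N).symm ((1 : R') ⊗ₜ g.hom m) =
      LocalizedModule.map q.asIdeal.primeCompl g.hom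
        ((LocalizedModule.equivTensorProduct q.asIdeal.primeCompl M).symm ((1 : R') ⊗ₜ m))
    rw [LocalizedModule.equivTensorProduct_symm_apply_tmul_one,
      LocalizedModule.equivTensorProduct_symm_apply_tmul_one, LocalizedModule.map_mk]
  have hz' : (LocCohLib.tensF A R').map ((localCohomology.{u} q.asIdeal i).map g) = 0 := by
    have := (LocCohLib.tensLcIso (R' := R') q.asIdeal i).hom.naturality g
    refine (Iso.cancel_iso_hom_right _ _ ((LocCohLib.tensLcIso (R' := R') q.asIdeal i).app N)).1 ?_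
    rw [zero_comp]
    refine this.trans ?_
    rw [Functor.comp_map, hsq, Functor.map_comp, Functor.map_comp,
      hJ _ Localization.AtPrime.map_eq_maximalIdeal, zero_comp, comp_zero, comp_zero]
  have h1 : TensorProduct.mk A R' ((G.D.F i).obj N) 1 (((G.D.F i).map g).hom x) = 0 :=
    congr($hz' ((1 : R') ⊗ₜ x))
  obtain ⟨⟨s, hs⟩, hsx⟩ := (IsLocalizedModule.eq_zero_iff q.asIdeal.primeCompl
    (TensorProduct.mk A R' ((G.D.F i).obj N) 1)).1 h1
  refine ⟨s, hs, ?_⟩
  have h2 : s • ((G.D.F i).map g).hom x = 0 := hsx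
  rw [map_cyc_zMap, ← map_smul, cyc_eq_zero_iff] at h2
  exact h2

end LcFinLib
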