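import Groth.Agent.LcFinLib.Gamma
import Groth.Agent.LocCohLib.LocalCohomology
import Groth.Agent.LocCohLib.Facts
import Mathlib.Algebra.Category.ModuleCat.EnoughInjectives

/-!
Dimension shifting along an injective resolution: an effaceable delta functor with degree zero part
`Γ_T` is read off from the sections supported in `T` of the resolution.
-/

set_option autoImplicit false
set_option maxHeartbeats 400000
universe u

noncomputable section

open CategoryTheory Limits

namespace LcFinLib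

variable {A : Type u} [CommRing A]

/-- The `n`-th cosyzygy of the chosen injective resolution. -/
def Zr : ModuleCat.{u} A → ℕ → ModuleCat.{u} A
  | M, 0 => M
  | M, n + 1 => Zr (cokernel (Injective.ι M)) n

/-- The `n`-th injective module of the resolution. -/
def Kr : ModuleCat.{u} A → ℕ → ModuleCat.{u} A
  | M, 0 => Injective.under M
  | M, n + 1 => Kr (cokernel (Injective.ι M)) n

/-- `Zr n → Kr n`. -/
def iotaR : ∀ (M : ModuleCat.{u} A) (n : ℕ), Zr M n ⟶ Kr M n
  | M, 0 => Injective.ι M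
  | M, n + 1 => iotaR (cokernel (Injective.ι M)) n

/-- `Kr n → Zr (n + 1)`. -/
def piR : ∀ (M : ModuleCat.{u} A) (n : ℕ), Kr M n ⟶ Zr M (n + 1)
  | M, 0 => cokernel.π (Injective.ι M)
  | M, n + 1 => piR (cokernel (Injective.ι M)) n

theorem iotaR_injective : ∀ (n : ℕ) (M : ModuleCat.{u} A), Function.Injective (iotaR M n).hom
  | 0, M => (ModuleCat.mono_iff_injective _).1 (inferInstanceAs (Mono (Injective.ι M)))
  | n + 1, M => iotaR_injective n _

theorem piR_surjective : ∀ (n : ℕ) (M : ModuleCat.{u} A), Function.Surjective (piR M n).hom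
  | 0, M => (ModuleCat.epi_iff_surjective _).1 (inferInstanceAs (Epi (cokernel.π (Injective.ι M))))
  | n + 1, M => piR_surjective n _

theorem exact_R : ∀ (n : ℕ) (M : ModuleCat.{u} A), Function.Exact (iotaR M n).hom (piR M n).hom
  | 0, M => (ShortComplex.ShortExact.moduleCat_exact_iff_function_exact _).1
      (LocCohLib.DeltaFun.under_shortExact M).exact
  | n + 1, M => exact_R n _

theorem baer_Kr [IsNoetherianRing A] : ∀ (n : ℕ) (M : ModuleCat.{u} A), Module.Baer A (Kr M n)
  | 0, M => Module.Baer.of_injective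
      (Module.injective_module_of_injective_object A _ (inj := inferInstanceAs (Injective (Injective.under M))))
  | n + 1, M => baer_Kr n _

/-- `z` is a boundary with support in `T`. -/
def Bnd (T : Set (PrimeSpectrum A)) : ∀ (i : ℕ) (M : ModuleCat.{u} A), Zr M i → Prop
  | 0, _, z => z = 0
  | n + 1, M, z => ∃ w ∈ gam T (Kr M n), (piR M n).hom w = z

/-- `a` kills the cohomology with support in `T` in degree `i`, in terms of the resolution. -/
def Kill (T : Set (PrimeSpectrum A)) (i : ℕ) (M : ModuleCat.{u} A) (a : A) : Prop :=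
  ∀ z ∈ gam T (Zr M i), Bnd T i M (a • z)

/-- An effaceable delta functor whose degree zero part is `Γ_T`. -/
structure GammaDelta (T : Set (PrimeSpectrum A)) where
  D : LocCohLib.DeltaFun (ModuleCat.{u} A) (ModuleCat.{u} A)
  eff : D.Effaceable
  e : D.F 0 ≅ gamF T

namespace GammaDelta

variable {T : Set (PrimeSpectrum A)} (G : GammaDelta T)

theorem map_smul_id (a : A) (i : ℕ) (M : ModuleCat.{u} A) :
    (G.D.F i).map (a • 𝟙 M) = a • 𝟙 _ := by
  refine G.eff.map_smul a (fun N => ?_) i M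
  rw [← cancel_mono (G.e.hom.app N), G.e.hom.naturality]
  ext y
  apply Subtype.ext
  change a • ((G.e.hom.app N).hom y).1 = ((G.e.hom.app N).hom (a • y)).1
  rw [map_smul]
  rfl

theorem hom_inv_apply {X Y : ModuleCat.{u} A} (e : X ≅ Y) (y : Y) : e.hom.hom (e.inv.hom y) = y :=
  congr($(e.inv_hom_id) y)

theorem inv_hom_apply {X Y : ModuleCat.{u} A} (e : X ≅ Y) (x : X) : e.inv.hom (e.hom.hom x) = x :=
  congr($(e.hom_inv_id) x)

theorem exists_cycle_map_zero (M : ModuleCat.{u} A) :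
    ∃ Ψ : gam T (Zr M 0) →ₗ[A] (G.D.F 0).obj M,
      Function.Surjective Ψ ∧ ∀ z, Ψ z = 0 ↔ Bnd T 0 M z.1 := by
  let e : (G.D.F 0).obj M ≅ (gamF T).obj M := G.e.app M
  refine ⟨e.inv.hom, fun x => ⟨e.hom.hom x, inv_hom_apply e x⟩, fun z => ⟨fun h => ?_, fun h => ?_⟩⟩
  · have h0 : z = 0 := by
      exact (hom_inv_apply e z).symm.trans ((congrArg e.hom.hom h).trans (map_zero _))
    exact congrArg Subtype.val h0
  · obtain rfl : z = 0 := Subtype.ext h
    exact map_zero _

theorem exists_cycle_map_one (M : ModuleCat.{u} A) :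
    ∃ Ψ : gam T (Zr M 1) →ₗ[A] (G.D.F 1).obj M,
      Function.Surjective Ψ ∧ ∀ z, Ψ z = 0 ↔ Bnd T 1 M z.1 := by
  let π := cokernel.π (Injective.ι M)
  have hS : (LocCohLib.DeltaFun.under (ModuleCat.{u} A) M).ShortExact :=
    LocCohLib.DeltaFun.under_shortExact M
  let δ : (G.D.F 0).obj (cokernel (Injective.ι M)) ⟶ (G.D.F 1).obj M := G.D.δ hS 0
  have hepi : Function.Surjective δ.hom := (ModuleCat.epi_iff_surjective _).1
    (G.D.epi_δ hS 0 (G.eff (Injective.under M) inferInstance 0))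
  let e₂ : (G.D.F 0).obj (Injective.under M) ≅ (gamF T).obj (Injective.under M) := G.e.app _
  let e₃ : (G.D.F 0).obj (cokernel (Injective.ι M)) ≅ (gamF T).obj (cokernel (Injective.ι M)) :=
    G.e.app _
  have nat : ∀ x, e₃.hom.hom (((G.D.F 0).map π).hom x) = ((gamF T).map π).hom (e₂.hom.hom x) :=
    fun x => congr($(G.e.hom.naturality π) x)
  have hex : ∀ y, δ.hom y = 0 → ∃ x, ((G.D.F 0).map π).hom x = y := fun y hy =>
    (ShortComplex.moduleCat_exact_iff _).1 (G.D.exact₃ hS 0) y hy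
  refine ⟨(e₃.inv ≫ δ).hom, hepi.comp (fun x => ⟨e₃.hom.hom x, inv_hom_apply e₃ x⟩),
    fun z => ⟨fun h => ?_, fun h => ?_⟩⟩
  · obtain ⟨x, hx⟩ := hex (e₃.inv.hom z) h
    let w : gam T (Injective.under M : ModuleCat.{u} A) := e₂.hom.hom x
    have h1 : ((gamF T).map π).hom w = z :=
      (nat x).symm.trans ((congrArg e₃.hom.hom hx).trans (hom_inv_apply e₃ z))
    exact ⟨w.1, w.2, congrArg Subtype.val h1⟩
  · obtain ⟨w, hw, hwz⟩ := h
    let x := e₂.inv.hom (⟨w, hw⟩ : gam T (Injective.under M : ModuleCat.{u} A))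
    have h1 : ((gamF T).map π).hom (e₂.hom.hom x) = z := by
      rw [hom_inv_apply]
      exact Subtype.ext hwz
    have h2 : e₃.inv.hom z = ((G.D.F 0).map π).hom x := by
      rw [← h1, ← nat, inv_hom_apply]
    show δ.hom (e₃.inv.hom z) = 0
    rw [h2]
    exact congr($(G.D.map_comp_δ hS 0) x)

/-- The cohomology is the cycles modulo the boundaries. -/
theorem exists_cycle_map : ∀ (i : ℕ) (M : ModuleCat.{u} A),
    ∃ Ψ : gam T (Zr M i) →ₗ[A] (G.D.F i).obj M,
      Function.Surjective Ψ ∧ ∀ z, Ψ z = 0 ↔ Bnd T i M z.1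
  | 0, M => G.exists_cycle_map_zero M
  | 1, M => G.exists_cycle_map_one M
  | n + 2, M => by
    have hS : (LocCohLib.DeltaFun.under (ModuleCat.{u} A) M).ShortExact :=
      LocCohLib.DeltaFun.under_shortExact M
    obtain ⟨Ψ, hΨ, hker⟩ := exists_cycle_map (n + 1) (cokernel (Injective.ι M))
    have hE := G.eff (Injective.under M) inferInstance
    let δ : (G.D.F (n + 1)).obj (cokernel (Injective.ι M)) ⟶ (G.D.F (n + 2)).obj M :=
      G.D.δ hS (n + 1)
    have hiso : IsIso δ := G.D.isIso_δ hS (n + 1) (hE n) (hE (n + 1))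
    have hbij := (ConcreteCategory.isIso_iff_bijective δ).1 hiso
    refine ⟨δ.hom ∘ₗ Ψ, hbij.2.comp hΨ, fun z => ?_⟩
    exact (map_eq_zero_iff δ.hom hbij.1).trans (hker z)

/-- Killing the cohomology is killing the cycles up to boundaries. -/
theorem forall_smul_eq_zero_iff (i : ℕ) (M : ModuleCat.{u} A) (a : A) :
    (∀ x : (G.D.F i).obj M, a • x = 0) ↔ Kill T i M a := by
  obtain ⟨Ψ, hΨ, hker⟩ := G.exists_cycle_map i M
  constructor
  · intro h z hz
    exact (hker (a • (⟨z, hz⟩ : gam T (Zr M i)))).1 (by rw [map_smul]; exact h _)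
  · intro h x
    obtain ⟨z, rfl⟩ := hΨ x
    rw [← map_smul]
    exact (hker (a • z)).2 (h z.1 z.2)

/-- Killing locally at a prime. -/
theorem forall_exists_smul_iff (i : ℕ) (M : ModuleCat.{u} A) (q : Ideal A) (a : A) :
    (∀ x : (G.D.F i).obj M, ∃ s ∉ q, s • a • x = 0) ↔
      ∀ z ∈ gam T (Zr M i), ∃ s ∉ q, Bnd T i M (s • a • z) := by
  obtain ⟨Ψ, hΨ, hker⟩ := G.exists_cycle_map i M
  constructor
  · intro h z hz
    obtain ⟨s, hs, hsx⟩ := h (Ψ ⟨z, hz⟩)
    rw [← map_smul, ← map_smul] at hsx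
    exact ⟨s, hs, (hker _).1 hsx⟩
  · intro h x
    obtain ⟨z, rfl⟩ := hΨ x
    obtain ⟨s, hs, hb⟩ := h z.1 z.2
    refine ⟨s, hs, ?_⟩
    rw [← map_smul, ← map_smul]
    exact (hker (s • a • z)).2 hb

/-- Every class is killed by an ideal with zero locus in `T`. -/
theorem mem_gam_top (i : ℕ) (M : ModuleCat.{u} A) (x : (G.D.F i).obj M) :
    x ∈ gam T ((G.D.F i).obj M) := by
  obtain ⟨Ψ, hΨ, -⟩ := G.exists_cycle_map i M
  obtain ⟨z, rfl⟩ := hΨ x
  exact map_mem_gam Ψ (by rw [gam_gam]; trivial)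

end GammaDelta

end LcFinLib
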